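import Cfsg.Agent.Lib.Suz2.Main
import Cfsg.Agent.S3773
import Cfsg.Agent.S3774
import Cfsg.Agent.Lib.R1.Hyp

/-!
Higman's theorem for a cyclic group of automorphisms.
-/

set_option autoImplicit false

namespace Cfsg.Agent.Suz2

open Subgroup
open scoped commutatorElement

universe u

theorem num_two_pow_sub_one {n : ℕ} (hn : 2 ≤ n) : Num n (2 ^ n - 1) := by
  have h1 : n + 1 < 2 ^ n := by
    induction n, hn using Nat.le_induction with
    | base => norm_num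
    | succ n _ ih => rw [pow_succ]; omega
  have h2 : ∀ k < n, 2 * 2 ^ k ≤ 2 ^ n := fun k hk => by
    rw [← pow_succ']; exact Nat.pow_le_pow_right two_pos hk
  refine ⟨by omega, dvd_rfl, fun k h0 hk => Nat.not_dvd_of_pos_of_lt ?_ ?_,
    Nat.not_dvd_of_pos_of_lt (by omega) (by omega), fun j hj k hk e => ?_⟩
  · have := Nat.one_lt_two_pow h0.ne'
    omega
  · have := h2 k hk
    have := Nat.one_lt_two_pow h0.ne'
    omega
  · by_contra hne
    obtain ⟨j, rfl⟩ := Nat.exists_eq_succ_of_ne_zero hne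
    have a1 := h2 _ hj
    have a2 := h2 _ hk
    have a3 : 0 < 2 ^ j := by positivity
    have a4 : 0 < 2 ^ k := by positivity
    rw [pow_succ] at a1 e
    have e' : 2 ^ j * 2 ≡ 2 ^ k - 1 [MOD 2 ^ n - 1] :=
      Nat.ModEq.add_left_cancel' 1 (by rwa [Nat.add_sub_cancel' a4])
    have := Nat.ModEq.eq_of_lt_of_lt e' (by omega) (by omega)
    rcases k with _ | k
    · omega
    · rw [pow_succ] at this a4; omega

variable {G : Type u} [Group G] [Finite G]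

theorem tr_of_trans (hG : IsPGroup 2 G) [Nontrivial G] {Y : Set (MulAut G)}
    (h : ∀ z w : G, z ≠ 1 → z ^ 2 = 1 → w ≠ 1 → w ^ 2 = 1 → ∃ y ∈ Y, y z = w) : Tr Y :=
  ⟨hG, (S3774.result hG fun z w h1 h2 h3 h4 => (h z w h1 h2 h3 h4).imp fun _ h => h.2).1, h⟩

theorem Tr.exists_card {Y : Set (MulAut G)} (h : Tr Y) {a b : G} (hab : a ≠ b) (ha : a ≠ 1)
    (ha2 : a ^ 2 = 1) (hb : b ≠ 1) (hb2 : b ^ 2 = 1) : ∃ n, 2 ≤ n ∧ Nat.card (Om G) = 2 ^ n := by
  obtain ⟨n, hn⟩ := PGrp.exists_card_eq_pow h.two (Om G)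
  refine ⟨n, ?_, hn⟩
  have : 3 ≤ (Om G : Set G).ncard := by
    rw [← Set.ncard_eq_three.2 ⟨1, a, b, ha.symm, hb.symm, hab, rfl⟩]
    refine Set.ncard_le_ncard ?_
    rintro _ (rfl | rfl | rfl)
    exacts [one_mem _, h.mem_Om.2 ha2, h.mem_Om.2 hb2]
  rw [← Nat.card_coe_set_eq, SetLike.coe_sort_coe, hn] at this
  by_contra hlt
  push Not at hlt
  interval_cases n <;> omega

omit [Finite G] in
theorem Tr.ncard_inv {Y : Set (MulAut G)} (h : Tr Y) {n : ℕ} (hn : Nat.card (Om G) = 2 ^ n) :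
    {z : G | z ≠ 1 ∧ z ^ 2 = 1}.ncard = 2 ^ n - 1 := by
  have : {z : G | z ≠ 1 ∧ z ^ 2 = 1} = (Om G : Set G) \ {1} := by
    ext z; simp [h.mem_Om, and_comm]
  rw [this, Set.ncard_diff_singleton_of_mem (one_mem _), ← Nat.card_coe_set_eq,
    SetLike.coe_sort_coe, hn]

theorem exists_hyp_of_cyclic {φ : MulAut G} (h : Tr (zpowers φ : Set (MulAut G))) {n : ℕ}
    (h2 : 2 ≤ n) (hn : Nat.card (Om G) = 2 ^ n) :
    ∃ x, Hyp (zpowers φ : Set (MulAut G)) x n (2 ^ n - 1) := by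
  classical
  have key : ∀ z : G, z ^ 2 = 1 → z ≠ 1 → ∀ j : ℕ, (φ ^ j) z = z ↔ 2 ^ n - 1 ∣ j := by
    intro z hz h1 j
    have := Fintype.ofFinite (MulAction.orbit (zpowers φ) z)
    have e : MulAction.orbit (zpowers φ) z = {z : G | z ≠ 1 ∧ z ^ 2 = 1} := by
      ext w
      constructor
      · rintro ⟨y, rfl⟩
        exact ⟨(map_ne_one_iff _ y.1.injective).2 h1, by
          change (y.1 z) ^ 2 = 1
          rw [← map_pow, hz, map_one]⟩
      · rintro ⟨h3, h4⟩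
        obtain ⟨y, hy, rfl⟩ := h.trans z w h1 hz h3 h4
        exact ⟨⟨y, hy⟩, rfl⟩
    rw [← h.ncard_inv hn, ← e, ← Nat.card_coe_set_eq, Nat.card_eq_fintype_card,
      ← MulAction.minimalPeriod_eq_card]
    exact MulAction.pow_smul_eq_iff_minimalPeriod_dvd (a := φ) (b := z)
  obtain ⟨a, m, hm, e⟩ := Nat.exists_eq_two_pow_mul_odd (orderOf_pos φ).ne'
  have hodd : Odd (2 ^ n - 1) := Nat.Even.sub_odd Nat.one_le_two_pow
    (Nat.even_pow.2 ⟨even_two, by omega⟩) odd_one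
  refine ⟨φ ^ 2 ^ a, h, pow_mem (mem_zpowers φ) _, ?_, hn, fun z hz => ?_,
    fun j z hz h1 e => ?_, num_two_pow_sub_one h2⟩
  · rwa [orderOf_pow_of_dvd (by positivity) ⟨m, e⟩, e, Nat.mul_div_cancel_left _ (by positivity)]
  · by_cases h1 : z = 1
    · rw [h1, map_one]
    · rw [← pow_mul, key z hz h1]
      exact Dvd.intro_left _ rfl
  · rw [← pow_mul, key z hz h1] at e
    exact ((Nat.coprime_two_right.2 hodd).pow_right a).dvd_of_dvd_mul_left e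

theorem card_eq_of_special {Y : Set (MulAut G)} (h : Tr Y) (hna : ¬ IsMulCommutative G)
    (h1 : commutator G = Om G) (h2 : frattini G = Om G) :
    Nat.card G = Nat.card (Om G) ^ 2 ∨ Nat.card G = Nat.card (Om G) ^ 3 := by
  have ht : Om G ≠ ⊤ := fun e => hna ⟨⟨fun a b => mem_center_iff.1 (e.ge (mem_top b)).1 a⟩⟩
  have : Nontrivial G := by
    by_contra hcon
    rw [not_nontrivial_iff_subsingleton] at hcon
    exact ht (Subsingleton.elim _ _)
  have e : Nat.card {z : G // z ^ 2 = 1} = Nat.card (Om G) :=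
    Nat.card_congr (Equiv.subtypeEquivRight fun z => h.mem_Om.symm)
  obtain ⟨m, hm⟩ := (S3774.result h.two fun z w h1 h2 h3 h4 =>
    (h.trans z w h1 h2 h3 h4).imp fun _ h => h.2).2
  have h3 := (S3773.result h.two (by
      change ⁅commutator G, ⊤⁆ = ⊥
      rw [commutator_eq_bot_iff_le_centralizer, h1, coe_top, centralizer_univ]
      exact fun z hz => hz.1)
    (fun g => by
      rw [show 4 = 2 * 2 from rfl, pow_mul]
      exact (h2.le (PGrp.pow_mem_frattini h.two g)).2)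
    fun a b ha hb => (mul_mem (h.mem_Om.2 ha) (h.mem_Om.2 hb)).2).1
  rw [e] at hm h3
  have h4 : Nat.card (Om G) < Nat.card G := by
    simpa using PGrp.card_lt_of_lt (lt_top_iff_ne_top.2 ht)
  have h5 : 1 < Nat.card (Om G) := by
    rw [one_lt_card_iff_ne_bot, ← h1]
    exact fun e => hna ⟨⟨fun a b => commutatorElement_eq_one_iff_mul_comm.1
      (mem_bot.1 (e ▸ commutator_mem_commutator (mem_top a) (mem_top b) : _ ∈ (⊥ : Subgroup G)))⟩⟩
  rw [hm] at h3 h4 ⊢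
  have h6 := (Nat.pow_le_pow_iff_right h5).1 h3
  have h7 := (Nat.pow_lt_pow_iff_right h5).1 ((pow_one _).trans_lt h4)
  interval_cases m <;> simp

end Cfsg.Agent.Suz2

namespace Cfsg.Agent.R1

open Subgroup Suz2

universe u

/-- Higman's theorem on Suzuki 2-groups. -/
theorem higman : Higman.{u} := by
  intro G _ _ S K hS hK hKS hna ⟨a, ha, b, hb, hab, ha1, ha2, hb1, hb2⟩ htr
  obtain ⟨k, rfl⟩ := (Subgroup.isCyclic_iff_exists_zpowers_eq_top K).1 hK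
  let φ : MulAut S := S.normalizerMonoidHom ⟨k, hKS (mem_zpowers k)⟩
  have : Nontrivial S := ⟨⟨a, ha⟩, ⟨b, hb⟩, fun e => hab (congrArg Subtype.val e)⟩
  have sq2 : ∀ z : S, z ^ 2 = 1 ↔ (z : G) * z = 1 := fun z => by
    rw [Subtype.ext_iff, pow_two]; rfl
  have h : Tr (zpowers φ : Set (MulAut S)) := tr_of_trans hS fun z w h1 h2 h3 h4 => by
    obtain ⟨_, ⟨i, rfl⟩, e⟩ := htr z z.2 w w.2 (fun e => h1 (Subtype.ext e)) ((sq2 z).1 h2)
      (fun e => h3 (Subtype.ext e)) ((sq2 w).1 h4)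
    refine ⟨φ ^ i, ⟨i, rfl⟩, Subtype.ext ?_⟩
    rw [← map_zpow]
    exact e
  obtain ⟨n, hn2, hn⟩ := h.exists_card (a := ⟨a, ha⟩) (b := ⟨b, hb⟩)
    (fun e => hab (congrArg Subtype.val e)) (fun e => ha1 (congrArg Subtype.val e))
    ((sq2 _).2 ha2) (fun e => hb1 (congrArg Subtype.val e)) ((sq2 _).2 hb2)
  obtain ⟨x, hx⟩ := exists_hyp_of_cyclic h hn2 hn
  obtain ⟨h1, h2, h3⟩ := hx.special hna
  have h4 : ⁅S, S⁆ = (Om S).map S.subtype := by rw [← h1, map_subtype_commutator]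
  have h5 : ∀ x, x ∈ ⁅S, S⁆ ↔ x ∈ S ∧ x * x = 1 := fun x => by
    rw [h4]
    exact ⟨by rintro ⟨z, hz, rfl⟩; exact ⟨z.2, (sq2 z).1 hz.2⟩,
      fun ⟨h5, h6⟩ => ⟨⟨x, h5⟩, h.mem_Om.2 ((sq2 _).2 h6), rfl⟩⟩
  refine ⟨h5, fun x => ⟨fun ⟨h6, h7⟩ => ⟨h6, (sq2 ⟨x, h6⟩).1 (h3.le
      (mem_center_iff.2 fun g => Subtype.ext (h7 g g.2))).2⟩,
    fun ⟨h6, h7⟩ => ⟨h6, fun g hg => congrArg Subtype.val
      (mem_center_iff.1 (h.cen ⟨x, h6⟩ ((sq2 _).2 h7)) ⟨g, hg⟩)⟩⟩, fun x hx => ?_, ?_⟩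
  · rw [h4]
    exact ⟨_, h2.le (PGrp.pow_mem_frattini hS ⟨x, hx⟩), pow_two x⟩
  · rw [h4, card_subtype]
    exact card_eq_of_special h hna h1 h2

end Cfsg.Agent.R1
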