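import Cfsg.Agent.Lib.Suz2.Basic

/-!
Elementary abelian sections as `F₂`-spaces, and the group form of the eigenvalue arguments.
-/

set_option autoImplicit false

namespace Cfsg.Agent.Suz2

open Subgroup Module
open scoped commutatorElement

universe u

variable {G : Type u} [Group G] {L L' M : Type*} [AddCommGroup L] [Module (ZMod 2) L]
  [AddCommGroup L'] [Module (ZMod 2) L'] [AddCommGroup M] [Module (ZMod 2) M]

/-- `p` identifies `C / A` with the additive group `L`. -/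
structure Pres (C A : Subgroup G) {L : Type*} [AddCommGroup L] (p : G → L) : Prop where
  mul : ∀ u ∈ C, ∀ v ∈ C, p (u * v) = p u + p v
  zero_iff : ∀ u ∈ C, p u = 0 ↔ u ∈ A
  surj : ∀ l, ∃ u ∈ C, p u = l

variable {C A C' A' : Subgroup G} {p : G → L} {p' : G → L'}

omit [Module (ZMod 2) L] in
theorem Pres.eq_iff (h : Pres C A p) {u v : G} (hu : u ∈ C) (hv : v ∈ C) :
    p u = p v ↔ u⁻¹ * v ∈ A := by
  have := h.mul u hu _ (mul_mem (inv_mem hu) hv)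
  rw [mul_inv_cancel_left] at this
  rw [← h.zero_iff _ (mul_mem (inv_mem hu) hv), this, left_eq_add]

omit [Module (ZMod 2) L] in
theorem Pres.exists_fun (h : Pres C A p) {X : Type*} (f : G → X)
    (hf : ∀ u ∈ C, ∀ a ∈ C, a ∈ A → f (u * a) = f u) : ∃ F : L → X, ∀ u ∈ C, F (p u) = f u := by
  choose s hs e using h.surj
  refine ⟨fun l => f (s l), fun u hu => ?_⟩
  beta_reduce
  rw [← hf _ (hs (p u)) _ (mul_mem (inv_mem (hs _)) hu) ((h.eq_iff (hs _) hu).1 (e _)),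
    mul_inv_cancel_left]

theorem Pres.lift (h : Pres C A p) (f : G → M) (hf : ∀ u ∈ C, ∀ v ∈ C, f (u * v) = f u + f v)
    (h0 : ∀ a ∈ C, a ∈ A → f a = 0) : ∃ F : L →ₗ[ZMod 2] M, ∀ u ∈ C, F (p u) = f u := by
  obtain ⟨F, hF⟩ := h.exists_fun f fun u hu a ha ha' => by rw [hf u hu a ha, h0 a ha ha', add_zero]
  refine ⟨(AddMonoidHom.mk' F fun a b => ?_).toZModLinearMap 2, hF⟩
  obtain ⟨u, hu, rfl⟩ := h.surj a
  obtain ⟨v, hv, rfl⟩ := h.surj b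
  rw [← h.mul u hu v hv, hF _ (mul_mem hu hv), hF u hu, hF v hv, hf u hu v hv]

theorem Pres.ext (h : Pres C A p) {F F' : L →ₗ[ZMod 2] M} (e : ∀ u ∈ C, F (p u) = F' (p u)) :
    F = F' := LinearMap.ext fun l => by
  obtain ⟨u, hu, rfl⟩ := h.surj l
  exact e u hu

theorem Pres.lift₂ (h : Pres C A p) (h' : Pres C' A' p') (f : G → G → M)
    (h1 : ∀ u ∈ C, ∀ v ∈ C, ∀ w ∈ C', f (u * v) w = f u w + f v w)
    (h2 : ∀ u ∈ C, ∀ v ∈ C', ∀ w ∈ C', f u (v * w) = f u v + f u w)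
    (h3 : ∀ a ∈ C, a ∈ A → ∀ w ∈ C', f a w = 0) (h4 : ∀ u ∈ C, ∀ a ∈ C', a ∈ A' → f u a = 0) :
    ∃ F : L →ₗ[ZMod 2] L' →ₗ[ZMod 2] M, ∀ u ∈ C, ∀ w ∈ C', F (p u) (p' w) = f u w := by
  have : ∀ u : G, ∃ F : L' →ₗ[ZMod 2] M, u ∈ C → ∀ w ∈ C', F (p' w) = f u w := fun u => by
    by_cases hu : u ∈ C
    · exact (h'.lift (f u) (h2 u hu) (h4 u hu)).imp fun F hF _ => hF
    · exact ⟨0, fun e => absurd e hu⟩
  choose g hg using this
  obtain ⟨F, hF⟩ := h.lift g (fun u hu v hv => h'.ext fun w hw => by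
    rw [LinearMap.add_apply, hg _ (mul_mem hu hv) w hw, hg u hu w hw, hg v hv w hw,
      h1 u hu v hv w hw]) fun a ha ha' => h'.ext fun w hw => by
    rw [hg a ha w hw, h3 a ha ha' w hw, LinearMap.zero_apply]
  exact ⟨F, fun u hu w hw => by rw [hF u hu, hg u hu w hw]⟩

theorem Pres.exists_act (h : Pres C A p) (x : MulAut G) (hC : ∀ u ∈ C, x u ∈ C)
    (hA : ∀ u ∈ A, x u ∈ A) : ∃ y : End (ZMod 2) L, ∀ j : ℕ, ∀ u ∈ C,
      (y ^ j) (p u) = p ((x ^ j) u) := by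
  obtain ⟨y, hy⟩ := h.lift (fun u => p (x u))
    (fun u hu v hv => by rw [map_mul, h.mul _ (hC u hu) _ (hC v hv)])
    fun a ha ha' => (h.zero_iff _ (hC a ha)).2 (hA a ha')
  refine ⟨y, fun j => ?_⟩
  induction j with
  | zero => intro u _; rfl
  | succ j ih =>
    intro u hu
    rw [pow_succ, pow_succ, Module.End.mul_apply, hy u hu, ih _ (hC u hu), MulAut.mul_apply]

theorem exists_pres [Finite G] (C A : Subgroup G) [A.Normal] (h : ∀ u ∈ C, u ^ 2 ∈ A) :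
    ∃ (L : Type u) (_ : AddCommGroup L) (_ : Module (ZMod 2) L) (_ : Finite L) (p : G → L),
      Pres C A p := by
  classical
  have h1 : ∀ u : C, u ^ 2 ∈ A.subgroupOf C := fun u => h u u.2
  have h2 := PGrp.isMulCommutative_quotient_iff.2 (PGrp.commutator_le_of_sq_mem h1)
  letI : CommGroup (C ⧸ A.subgroupOf C) := IsMulCommutative.instCommGroup
  letI := PGrp.zmodModule (p := 2) (PGrp.quotient_pow_eq_one_iff.2 h1)
  refine ⟨Additive (C ⧸ A.subgroupOf C), inferInstance, inferInstance, inferInstance,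
    fun g => if hg : g ∈ C then .ofMul ((⟨g, hg⟩ : C) : C ⧸ A.subgroupOf C) else 0,
    fun u hu v hv => ?_, fun u hu => ?_, fun l => ?_⟩
  · rw [dif_pos hu, dif_pos hv, dif_pos (mul_mem hu hv)]; rfl
  · rw [dif_pos hu]
    exact QuotientGroup.eq_one_iff (N := A.subgroupOf C) ⟨u, hu⟩
  · obtain ⟨u, hu⟩ := QuotientGroup.mk_surjective (Additive.toMul l)
    exact ⟨u, u.2, by rw [dif_pos u.2]; exact congrArg Additive.ofMul hu⟩

theorem pow_apply_mem {x : MulAut G} (hC : ∀ u ∈ C, x u ∈ C) (j : ℕ) : ∀ u ∈ C, (x ^ j) u ∈ C := by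
  induction j with
  | zero => exact fun u hu => hu
  | succ j ih => exact fun u hu => by rw [pow_succ, MulAut.mul_apply]; exact ih _ (hC u hu)

/-- the hypotheses: `Y` is transitive on the involutions and `x ∈ Y` is semiregular on them -/
structure Hyp (Y : Set (MulAut G)) (x : MulAut G) (n d : ℕ) : Prop extends Tr Y where
  mem : x ∈ Y
  odd : Odd (orderOf x)
  card : Nat.card (Om G) = 2 ^ n
  pow : ∀ z : G, z ^ 2 = 1 → (x ^ d) z = z
  semi : ∀ (j : ℕ) (z : G), z ^ 2 = 1 → z ≠ 1 → (x ^ j) z = z → d ∣ j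
  num : Num n d

variable [Finite G] {Y : Set (MulAut G)} {x : MulAut G} {n d : ℕ}

theorem Hyp.fpf (h : Hyp Y x n d) {j : ℕ} (hj : ¬ d ∣ j) (g : G) (hg : (x ^ j) g = g) : g = 1 :=
  h.toTr.fpf (fun z hz e => by_contra fun hne => hj (h.semi j z hz hne e)) hg

theorem Hyp.inj (h : Hyp Y x n d) (hp : Pres C A p) (hC : ∀ u ∈ C, x u ∈ C)
    (hA : ∀ u ∈ A, x u ∈ A) {y : End (ZMod 2) L}
    (hy : ∀ j : ℕ, ∀ u ∈ C, (y ^ j) (p u) = p ((x ^ j) u)) (j : ℕ) (hj : ¬ d ∣ j) :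
    Function.Injective (y ^ j - 1 : End (ZMod 2) L) := by
  rw [injective_iff_map_eq_zero]
  intro l hl
  obtain ⟨u, hu, rfl⟩ := hp.surj l
  rw [LinearMap.sub_apply, Module.End.one_apply, sub_eq_zero, hy j u hu, eq_comm,
    hp.eq_iff hu (pow_apply_mem hC j u hu)] at hl
  obtain ⟨w, hw, e⟩ := exists_of_fpf (h.fpf hj) (pow_apply_mem hA j) hl
  exact (hp.zero_iff u hu).2 (inj_of_fpf (h.fpf hj) e ▸ hw)

omit [Finite G] in
theorem pow_orderOf_act (hp : Pres C A p) {y : End (ZMod 2) L}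
    (hy : ∀ j : ℕ, ∀ u ∈ C, (y ^ j) (p u) = p ((x ^ j) u)) : y ^ orderOf x = 1 :=
  hp.ext fun u hu => by rw [hy _ u hu, pow_orderOf_eq_one]; rfl

theorem Hyp.exists_om (h : Hyp Y x n d) : ∃ (V : Type u) (_ : AddCommGroup V)
    (_ : Module (ZMod 2) V) (_ : Finite V) (om : G → V) (y : End (ZMod 2) V),
      Pres (Om G) ⊥ om ∧ VSpec y n d ∧ ∀ z ∈ Om G, y (om z) = om (x z) := by
  obtain ⟨V, _, _, _, om, hp⟩ := exists_pres (Om G) ⊥ fun u hu => hu.2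
  have hb : ∀ u ∈ (⊥ : Subgroup G), x u ∈ (⊥ : Subgroup G) := fun u hu => by
    rw [mem_bot.1 hu, map_one]; exact one_mem _
  obtain ⟨y, hy⟩ := hp.exists_act x (fun _ => map_mem_Om x) hb
  refine ⟨V, _, _, inferInstance, om, y, hp, ⟨?_, hp.ext fun u hu => ?_,
    h.inj hp (fun _ => map_mem_Om x) hb hy, h.num⟩, fun z hz => by simpa using hy 1 z hz⟩
  · rw [← h.card]
    refine (Nat.card_eq_of_bijective (fun z : Om G => om z) ⟨fun a b e => Subtype.ext ?_,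
      fun l => ?_⟩).symm
    · exact inv_mul_eq_one.1 ((hp.eq_iff a.2 b.2).1 e)
    · obtain ⟨u, hu, e⟩ := hp.surj l
      exact ⟨⟨u, hu⟩, e⟩
  · rw [hy d u hu, h.pow u hu.2]; rfl

/-- group form of `alt_eq_zero` -/
theorem Hyp.alt (h : Hyp Y x n d) [A.Normal] (hC : Inv Y C) (hA : Inv Y A)
    (hsq : ∀ u ∈ C, u ^ 2 ∈ A) (π : G → G) (π0 : ∀ u ∈ C, π u ^ 2 = 1)
    (π1 : ∀ u ∈ C, ∀ v ∈ C, π (u * v) = π u * π v) (π2 : ∀ u ∈ C, π u = 1 ↔ u ∈ A)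
    (π3 : ∀ u ∈ C, π (x u) = x (π u)) (b : G → G → G) (b0 : ∀ u ∈ C, ∀ v ∈ C, b u v ^ 2 = 1)
    (b1 : ∀ u ∈ C, ∀ v ∈ C, ∀ w ∈ C, b (u * v) w = b u w * b v w)
    (b2 : ∀ u ∈ C, ∀ v ∈ C, b u v = b v u) (b3 : ∀ a ∈ A, ∀ v ∈ C, b a v = 1)
    (b4 : ∀ u ∈ C, b u u = 1) (b5 : ∀ u ∈ C, ∀ v ∈ C, b (x u) (x v) = x (b u v)) :
    ∀ u ∈ C, ∀ v ∈ C, b u v = 1 := by
  obtain ⟨V, _, _, _, om, y, hom, hV, hy⟩ := h.exists_om
  obtain ⟨L, _, _, _, p, hp⟩ := exists_pres C A hsq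
  obtain ⟨z, hz⟩ := hp.exists_act x (hC x h.mem) (hA x h.mem)
  have hz1 : ∀ u ∈ C, z (p u) = p (x u) := fun u hu => by simpa using hz 1 u hu
  have mO := fun {g : G} => h.toTr.mem_Om (z := g)
  have om1 : om 1 = 0 := (hom.zero_iff 1 (one_mem _)).2 (one_mem _)
  obtain ⟨P, hP⟩ := hp.lift (fun u => om (π u))
    (fun u hu v hv => by rw [π1 u hu v hv, hom.mul _ (mO.2 (π0 u hu)) _ (mO.2 (π0 v hv))])
    fun a ha ha' => by rw [(π2 a ha).2 ha', om1]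
  obtain ⟨β, hβ⟩ := hp.lift₂ hp (fun u v => om (b u v))
    (fun u hu v hv w hw => by
      rw [b1 u hu v hv w hw, hom.mul _ (mO.2 (b0 u hu w hw)) _ (mO.2 (b0 v hv w hw))])
    (fun u hu v hv w hw => by
      rw [b2 u hu _ (mul_mem hv hw), b1 v hv w hw u hu, b2 v hv u hu, b2 w hw u hu,
        hom.mul _ (mO.2 (b0 u hu v hv)) _ (mO.2 (b0 u hu w hw))])
    (fun a _ ha w hw => by rw [b3 a ha w hw, om1])
    fun u hu a ha ha' => by rw [b2 u hu a ha, b3 a ha' u hu, om1]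
  have := alt_eq_zero hV h.odd (pow_orderOf_act hp hz) P ((injective_iff_map_eq_zero _).2 fun l hl => by
      obtain ⟨u, hu, rfl⟩ := hp.surj l
      rw [hP u hu, hom.zero_iff _ (mO.2 (π0 u hu)), mem_bot, π2 u hu] at hl
      exact (hp.zero_iff u hu).2 hl)
    (fun l => by
      obtain ⟨u, hu, rfl⟩ := hp.surj l
      rw [hz1 u hu, hP u hu, hP _ (hC x h.mem u hu), hy _ (mO.2 (π0 u hu)), π3 u hu]) β
    (fun l => by
      obtain ⟨u, hu, rfl⟩ := hp.surj l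
      rw [hβ u hu u hu, b4 u hu, om1])
    fun l l' => by
      obtain ⟨u, hu, rfl⟩ := hp.surj l
      obtain ⟨v, hv, rfl⟩ := hp.surj l'
      rw [hz1 u hu, hz1 v hv, hβ u hu v hv, hβ _ (hC x h.mem u hu) _ (hC x h.mem v hv),
        hy _ (mO.2 (b0 u hu v hv)), b5 u hu v hv]
  intro u hu v hv
  have e := hβ u hu v hv
  rw [this] at e
  exact mem_bot.1 ((hom.zero_iff _ (mO.2 (b0 u hu v hv))).1 e.symm)

end Cfsg.Agent.Suz2
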