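import Cfsg.Agent.Lib.Suz2.Lin2
import Cfsg.Agent.Lib.PGrp.Omega
import Cfsg.Agent.Lib.PGrp.Frattini
import Cfsg.Agent.Lib.PGrp.ElemAb

/-!
2-groups with a set `Y` of automorphisms transitive on the involutions: invariant abelian subgroups;
presentations of elementary abelian sections as `F₂`-spaces.
-/

set_option autoImplicit false

namespace Cfsg.Agent.Suz2

open Subgroup Module
open scoped commutatorElement

universe u

variable {G : Type u} [Group G]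

/-- the central elements of order at most two -/
def Om (G : Type u) [Group G] : Subgroup G where
  carrier := {z | z ∈ center G ∧ z ^ 2 = 1}
  mul_mem' := fun {a b} ha hb => ⟨mul_mem ha.1 hb.1, by
    rw [(show Commute a b from mem_center_iff.1 hb.1 a).mul_pow, ha.2, hb.2, one_mul]⟩
  one_mem' := ⟨one_mem _, one_pow 2⟩
  inv_mem' := fun {a} ha => ⟨inv_mem ha.1, by rw [inv_pow, ha.2, inv_one]⟩

theorem map_mem_Om (φ : MulAut G) {z : G} (hz : z ∈ Om G) : φ z ∈ Om G :=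
  ⟨mem_center_iff.2 fun g => by
    obtain ⟨g, rfl⟩ := φ.surjective g
    rw [← map_mul, ← map_mul, mem_center_iff.1 hz.1], by rw [← map_pow, hz.2, map_one]⟩

/-- the squares -/
def sq (A : Subgroup G) : Subgroup G := powerClosure 2 1 A

theorem sq_mem_sq {A : Subgroup G} {a : G} (ha : a ∈ A) : a ^ 2 ∈ sq A :=
  PGrp.pow_mem_powerClosure (p := 2) (n := 1) ha

theorem sq_le (A : Subgroup G) : sq A ≤ A := PGrp.powerClosure_le 1 A

instance (A : Subgroup G) [A.Normal] : (sq A).Normal := PGrp.powerClosure_normal 1 A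

/-- `B` is invariant under `Y` -/
def Inv (Y : Set (MulAut G)) (B : Subgroup G) : Prop := ∀ y ∈ Y, ∀ b ∈ B, y b ∈ B

/-- `A` is abelian and invariant under `Y` -/
structure AbInv (Y : Set (MulAut G)) (A : Subgroup G) : Prop where
  comm : ∀ a ∈ A, ∀ b ∈ A, Commute a b
  inv : Inv Y A

variable {Y : Set (MulAut G)} {A B C : Subgroup G}

theorem AbInv.mem_sq (hA : AbInv Y A) {g : G} : g ∈ sq A ↔ ∃ a ∈ A, g = a ^ 2 :=
  PGrp.mem_powerClosure_iff_of_comm (p := 2) (n := 1) (PGrp.isMulCommutative_iff_mem.2 hA.comm)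

theorem AbInv.of_le (hA : AbInv Y A) (hB : Inv Y B) (h : B ≤ A) : AbInv Y B :=
  ⟨fun a ha b hb => hA.comm a (h ha) b (h hb), hB⟩

theorem AbInv.sq (hA : AbInv Y A) : AbInv Y (sq A) :=
  hA.of_le (fun y hy b hb => by
    obtain ⟨a, ha, rfl⟩ := hA.mem_sq.1 hb
    rw [map_pow]
    exact sq_mem_sq (hA.inv y hy a ha)) (sq_le A)

theorem Inv.commutator (hA : Inv Y A) (hB : Inv Y B) : Inv Y ⁅A, B⁆ := fun y hy b hb => by
  have : ⁅A, B⁆.map y.toMonoidHom ≤ ⁅A, B⁆ := by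
    rw [map_commutator]
    exact commutator_mono (by rintro _ ⟨a, ha, rfl⟩; exact hA y hy a ha)
      (by rintro _ ⟨a, ha, rfl⟩; exact hB y hy a ha)
  exact this (mem_map_of_mem _ hb)

theorem Inv.sup (hA : Inv Y A) (hB : Inv Y B) : Inv Y (A ⊔ B) := fun y hy b hb => by
  have : (A ⊔ B).map y.toMonoidHom ≤ A ⊔ B := by
    rw [Subgroup.map_sup]
    exact sup_le_sup (by rintro _ ⟨a, ha, rfl⟩; exact hA y hy a ha)
      (by rintro _ ⟨a, ha, rfl⟩; exact hB y hy a ha)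
  exact this (mem_map_of_mem _ hb)

theorem inv_top : Inv Y (⊤ : Subgroup G) := fun _ _ _ _ => trivial

theorem inv_of_characteristic [h : A.Characteristic] : Inv Y A := fun y _ b hb =>
  characteristic_iff_le_comap.1 h y hb

/-- the transitivity hypothesis -/
structure Tr (Y : Set (MulAut G)) : Prop where
  two : IsPGroup 2 G
  cen : ∀ z : G, z ^ 2 = 1 → z ∈ center G
  trans : ∀ z w : G, z ≠ 1 → z ^ 2 = 1 → w ≠ 1 → w ^ 2 = 1 → ∃ y ∈ Y, y z = w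

theorem Tr.mem_Om (h : Tr Y) {z : G} : z ∈ Om G ↔ z ^ 2 = 1 := ⟨fun h => h.2, fun e => ⟨h.cen z e, e⟩⟩

variable [Finite G]

theorem Tr.om_le (h : Tr Y) (hB : Inv Y B) (h0 : B ≠ ⊥) {z : G} (hz : z ^ 2 = 1) : z ∈ B := by
  by_cases h1 : z = 1
  · exact h1 ▸ one_mem B
  obtain ⟨w, hw, ho⟩ := PGrp.exists_orderOf_eq_prime_of_ne_bot (h.two.to_subgroup B) h0
  obtain ⟨y, hy, rfl⟩ := h.trans w z (by rintro rfl; simp at ho)
    (by rw [← ho, pow_orderOf_eq_one]) h1 hz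
  exact hB y hy w hw

theorem Tr.exists_exp (h : Tr Y) : ∃ k, ∀ g : G, g ^ 2 ^ k = 1 := by
  obtain ⟨k, hk⟩ := IsPGroup.iff_card.1 h.two
  exact ⟨k, fun g => hk ▸ pow_card_eq_one'⟩

theorem Tr.sq_lt (h : Tr Y) (hA : AbInv Y A) (h0 : A ≠ ⊥) : sq A < A := by
  refine (sq_le A).lt_of_ne fun e => h0 ((eq_bot_iff_forall _).2 fun a ha => ?_)
  obtain ⟨k, hk⟩ := h.exists_exp
  have : ∀ j : ℕ, ∃ b ∈ A, a = b ^ 2 ^ j := fun j => by
    induction j with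
    | zero => exact ⟨a, ha, by simp⟩
    | succ j ih =>
      obtain ⟨b, hb, rfl⟩ := ih
      obtain ⟨c, hc, rfl⟩ := hA.mem_sq.1 (e ▸ hb)
      exact ⟨c, hc, by rw [← pow_mul, pow_succ']⟩
  obtain ⟨b, -, rfl⟩ := this k
  exact hk b

theorem Tr.mem_sq_of_sq (h : Tr Y) (hA : AbInv Y A) (h0 : sq A ≠ ⊥) {a : G} (ha : a ∈ A)
    (h2 : a ^ 2 ∈ sq (sq A)) : a ∈ sq A := by
  obtain ⟨b, hb, e⟩ := hA.sq.mem_sq.1 h2
  have : a * b⁻¹ ∈ sq A := h.om_le hA.sq.inv h0 (by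
    rw [(hA.comm a ha b (sq_le A hb)).inv_right.mul_pow, e, inv_pow, mul_inv_cancel])
  exact (mul_mem_cancel_right (inv_mem hb)).1 this

/-- Invariant abelian subgroups are uniserial. -/
theorem Tr.eq_of_not_mem_sq (h : Tr Y) (hA : AbInv Y A) (hB : Inv Y B) (hle : B ≤ A) {b : G}
    (hb : b ∈ B) (hb' : b ∉ sq A) : B = A := by
  induction A using WellFoundedLT.induction generalizing B b with
  | ind A ih =>
  have h0 : B ≠ ⊥ := by rintro rfl; exact hb' (mem_bot.1 hb ▸ one_mem _)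
  refine le_antisymm hle fun a ha => ?_
  by_cases h1 : sq A = ⊥
  · exact h.om_le hB h0 (mem_bot.1 (h1 ▸ sq_mem_sq ha))
  have := ih (sq A) (h.sq_lt hA fun e => h0 (le_bot_iff.1 (e ▸ hle))) hA.sq (hA.of_le hB hle).sq.inv
    (PGrp.powerClosure_mono 1 hle) (sq_mem_sq hb) fun e => hb' (h.mem_sq_of_sq hA h1 (hle hb) e)
  obtain ⟨c, hc, e⟩ := (hA.of_le hB hle).mem_sq.1 (this ▸ sq_mem_sq ha)
  have : a * c⁻¹ ∈ B := h.om_le hB h0 (by
    rw [(hA.comm a ha c (hle hc)).inv_right.mul_pow, e, inv_pow, mul_inv_cancel])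
  exact (mul_mem_cancel_right (inv_mem hc)).1 this

theorem Tr.exists_top (h : Tr Y) (hA : AbInv Y A) (h0 : A ≠ ⊥) : ∃ e : ℕ,
    (∀ a ∈ A, (a ^ 2 ^ e) ^ 2 = 1) ∧ (∀ a ∈ A, a ^ 2 ^ e = 1 ↔ a ∈ sq A) ∧
      ∀ z : G, z ^ 2 = 1 → ∃ a ∈ A, a ^ 2 ^ e = z := by
  classical
  have hex : ∃ k, ∀ a ∈ A, a ^ 2 ^ k = 1 := h.exists_exp.imp fun k hk a _ => hk a
  obtain ⟨e, he⟩ : ∃ e, Nat.find hex = e + 1 := Nat.exists_eq_succ_of_ne_zero fun e =>
    h0 ((eq_bot_iff_forall _).2 fun a ha => by simpa [e] using Nat.find_spec hex a ha)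
  have h1 : ∀ a ∈ A, (a ^ 2 ^ e) ^ 2 = 1 := fun a ha => by
    rw [← pow_mul, ← pow_succ, ← he, Nat.find_spec hex a ha]
  have h2 := Nat.find_min hex (m := e) (by omega)
  push Not at h2
  obtain ⟨a₀, ha₀, ha₀'⟩ := h2
  let K : Subgroup G :=
    { carrier := {a | a ∈ A ∧ a ^ 2 ^ e = 1}
      mul_mem' := fun {a b} ha hb => ⟨mul_mem ha.1 hb.1, by
        rw [(hA.comm a ha.1 b hb.1).mul_pow, ha.2, hb.2, one_mul]⟩
      one_mem' := ⟨one_mem _, one_pow _⟩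
      inv_mem' := fun {a} ha => ⟨inv_mem ha.1, by rw [inv_pow, ha.2, inv_one]⟩ }
  let I : Subgroup G :=
    { carrier := {z | ∃ a ∈ A, a ^ 2 ^ e = z}
      mul_mem' := by
        rintro _ _ ⟨a, ha, rfl⟩ ⟨b, hb, rfl⟩
        exact ⟨a * b, mul_mem ha hb, (hA.comm a ha b hb).mul_pow _⟩
      one_mem' := ⟨1, one_mem _, one_pow _⟩
      inv_mem' := by
        rintro _ ⟨a, ha, rfl⟩
        exact ⟨a⁻¹, inv_mem ha, inv_pow _ _⟩ }
  refine ⟨e, h1, fun a ha => ⟨fun e' => ?_, fun e' => ?_⟩, fun z hz => h.om_le (B := I) ?_ ?_ hz⟩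
  · by_contra hn
    have := h.eq_of_not_mem_sq (B := K) hA (fun y hy b hb =>
      ⟨hA.inv y hy b hb.1, by rw [← map_pow, hb.2, map_one]⟩) (fun b hb => hb.1) ⟨ha, e'⟩ hn
    exact ha₀' (show a₀ ∈ K from this ▸ ha₀).2
  · obtain ⟨b, hb, rfl⟩ := hA.mem_sq.1 e'
    rw [← pow_mul, mul_comm, pow_mul, h1 b hb]
  · rintro y hy _ ⟨a, ha, rfl⟩
    exact ⟨y a, hA.inv y hy a ha, (map_pow _ _ _).symm⟩
  · exact fun e' => ha₀' (mem_bot.1 (e' ▸ (⟨a₀, ha₀, rfl⟩ : _ ∈ I)))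

theorem Tr.comm_mem_sq (h : Tr Y) (hA : AbInv Y A) [A.Normal] {a : G} (ha : a ∈ A) (g : G) :
    ⁅a, g⁆ ∈ sq A := by
  by_contra hn
  have h0 : A ≠ ⊥ := by rintro rfl; rw [mem_bot.1 ha] at hn; simp at hn
  exact (PGrp.commutator_top_lt h.two h0).ne (h.eq_of_not_mem_sq hA (hA.inv.commutator inv_top)
    (commutator_le_left _ _) (commutator_mem_commutator ha (mem_top g)) hn)

theorem Tr.comm_mem_sq' (h : Tr Y) (hA : AbInv Y A) [A.Normal] {a : G} (ha : a ∈ A) (g : G) :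
    ⁅g, a⁆ ∈ sq A := by
  rw [← commutatorElement_inv]
  exact inv_mem (h.comm_mem_sq hA ha g)

omit [Finite G] in
theorem AbInv.comm_mul (hA : AbInv Y A) [hn : A.Normal] (u : G) {a b : G} (ha : a ∈ A)
    (hb : b ∈ A) : ⁅u, a * b⁆ = ⁅u, a⁆ * ⁅u, b⁆ := by
  have h1 : ⁅u, b⁆ ∈ A := mul_mem (hn.conj_mem b hb u) (inv_mem hb)
  calc ⁅u, a * b⁆ = ⁅u, a⁆ * (a * ⁅u, b⁆) * a⁻¹ := by simp only [commutatorElement_def]; group
    _ = _ := by rw [hA.comm a ha _ h1]; group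

omit [Finite G] in
theorem AbInv.comm_pow (hA : AbInv Y A) [hn : A.Normal] (u : G) {a : G} (ha : a ∈ A) (k : ℕ) :
    ⁅u, a ^ k⁆ = ⁅u, a⁆ ^ k := by
  induction k with
  | zero => simp
  | succ k ih => rw [pow_succ, hA.comm_mul u (pow_mem ha k) ha, ih, pow_succ]

/-- Higman's second lemma. -/
theorem Tr.mem_of_sq (h : Tr Y) (hA : AbInv Y A) [hn : A.Normal] (h0 : A ≠ ⊥) {u : G}
    (hu : u ^ 2 ∈ sq A) (hc : ∀ a ∈ A, ⁅u, a⁆ ∈ sq (sq A)) : u ∈ A := by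
  have key : ∀ k : ℕ, ∃ b ∈ A, ∃ a ∈ A, (b * u) ^ 2 = a ^ 2 ^ (k + 1) := fun k => by
    induction k with
    | zero =>
      obtain ⟨a, ha, e⟩ := hA.mem_sq.1 hu
      exact ⟨1, one_mem _, a, ha, by simpa using e⟩
    | succ k ih =>
      obtain ⟨b, hb, a, ha, e⟩ := ih
      obtain ⟨c, hc, e1⟩ := hA.sq.mem_sq.1 (hc a⁻¹ (inv_mem ha))
      obtain ⟨c, hc', rfl⟩ := hA.mem_sq.1 hc
      have hai := pow_mem (inv_mem ha) (2 ^ k)
      refine ⟨a⁻¹ ^ 2 ^ k * b, mul_mem hai hb, c, hc', ?_⟩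
      have e2 : ⁅u, a⁻¹ ^ 2 ^ k⁆ = c ^ 2 ^ (k + 1 + 1) := by
        rw [hA.comm_pow u (inv_mem ha), e1, ← pow_mul, ← pow_mul]
        congr 1; ring
      have e3 : a⁻¹ ^ 2 ^ k * a⁻¹ ^ 2 ^ k * (b * u) ^ 2 = 1 := by
        rw [e, ← pow_add, ← two_mul, ← pow_succ', inv_pow, inv_mul_cancel]
      set t := a⁻¹ ^ 2 ^ k
      have e4 := hA.comm _ (mul_mem hai hb) _ (pow_mem hc' (2 ^ (k + 1 + 1)))
      calc (t * b * u) ^ 2 = t * b * ⁅u, t⁆ * t * b⁻¹ * (b * u) ^ 2 := by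
            simp only [commutatorElement_def, pow_two]; group
        _ = ⁅u, t⁆ * (t * (b * t) * b⁻¹ * (b * u) ^ 2) := by rw [e2, e4]; group
        _ = _ := by rw [hA.comm b hb t hai, ← e2, ← mul_assoc t, mul_inv_cancel_right, e3, mul_one]
  obtain ⟨k, hk⟩ := h.exists_exp
  obtain ⟨b, hb, a, -, e⟩ := key k
  rw [pow_succ' 2 k, pow_mul, hk] at e
  exact (mul_mem_cancel_left hb).1 (h.om_le hA.inv h0 e)

theorem Tr.fpf (h : Tr Y) {φ : MulAut G} (hφ : ∀ z, z ^ 2 = 1 → φ z = z → z = 1) {g : G}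
    (hg : φ g = g) : g = 1 := by
  by_contra hne
  obtain ⟨w, hw, ho⟩ := PGrp.exists_orderOf_eq_prime_of_ne_bot (h.two.to_subgroup (zpowers g))
    (by simpa using hne)
  obtain ⟨k, rfl⟩ := mem_zpowers_iff.1 hw
  rw [hφ (g ^ k) (by rw [← ho, pow_orderOf_eq_one]) (by rw [map_zpow, hg])] at ho
  simp at ho

omit [Finite G] in
theorem inj_of_fpf {φ : MulAut G} (hφ : ∀ g, φ g = g → g = 1) :
    Function.Injective fun w => w⁻¹ * φ w := fun w w' e => by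
  have e' : w⁻¹ * φ w = w'⁻¹ * φ w' := e
  rw [← mul_inv_eq_one]
  refine hφ _ ?_
  rw [map_mul, map_inv, mul_inv_eq_iff_eq_mul, mul_assoc, ← e', mul_inv_cancel_left]

theorem exists_of_fpf {φ : MulAut G} (hφ : ∀ g, φ g = g → g = 1) (hA : ∀ a ∈ A, φ a ∈ A) {a : G}
    (ha : a ∈ A) : ∃ w ∈ A, w⁻¹ * φ w = a := by
  obtain ⟨w, hw⟩ := Finite.surjective_of_injective
    (f := fun w : A => (⟨w⁻¹ * φ w, mul_mem (inv_mem w.2) (hA w w.2)⟩ : A))
    (fun w w' e => Subtype.ext (inj_of_fpf hφ (congrArg Subtype.val e))) ⟨a, ha⟩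
  exact ⟨w, w.2, congrArg Subtype.val hw⟩

end Cfsg.Agent.Suz2
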