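import Mathlib

/-!
Linear algebra over `F₂` for Higman's theorem on Suzuki 2-groups: extension of scalars, the
Frobenius map, and the spectrum of a semiregular automorphism.
-/

set_option autoImplicit false

namespace Cfsg.Agent.Suz2

open Module TensorProduct

/-- the algebraic closure of `F₂` -/
abbrev KK : Type := AlgebraicClosure (ZMod 2)

/-- extension of scalars -/
abbrev BC (L : Type*) [AddCommGroup L] [Module (ZMod 2) L] := KK ⊗[ZMod 2] L

variable {L M V : Type*} [AddCommGroup L] [Module (ZMod 2) L] [AddCommGroup M] [Module (ZMod 2) M]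
  [AddCommGroup V] [Module (ZMod 2) V]

/-- squaring as a linear equivalence over `F₂` -/
noncomputable def frob : KK ≃ₗ[ZMod 2] KK :=
  LinearEquiv.ofBijective ((frobenius KK 2).toAddMonoidHom.toZModLinearMap 2)
    (bijective_frobenius KK 2)

variable (L) in
/-- the Frobenius map of the extended module -/
noncomputable def fr : BC L ≃ₗ[ZMod 2] BC L := LinearEquiv.rTensor L frob

theorem fr_tmul (a : KK) (u : L) : fr L (a ⊗ₜ u) = (a ^ 2) ⊗ₜ u := rfl

theorem fr_smul (c : KK) (w : BC L) : fr L (c • w) = c ^ 2 • fr L w := by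
  induction w using TensorProduct.induction_on with
  | zero => simp
  | tmul a u => rw [smul_tmul', fr_tmul, fr_tmul, smul_tmul', smul_eq_mul, smul_eq_mul, mul_pow]
  | add a b ha hb => rw [smul_add, map_add, map_add, ha, hb, smul_add]

theorem fr_bc (f : L →ₗ[ZMod 2] M) (w : BC L) :
    fr M (f.baseChange KK w) = f.baseChange KK (fr L w) := by
  induction w using TensorProduct.induction_on with
  | zero => simp
  | tmul a u => rfl
  | add a b ha hb => simp only [map_add, ha, hb]

/-- extension of scalars of a bilinear map -/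
noncomputable def bc2 (f : L →ₗ[ZMod 2] M →ₗ[ZMod 2] V) : BC L →ₗ[KK] BC M →ₗ[KK] BC V :=
  LinearMap.liftBaseChange KK ((LinearMap.baseChangeHom (ZMod 2) KK M V).comp f)

theorem bc2_tmul' (f : L →ₗ[ZMod 2] M →ₗ[ZMod 2] V) (a : KK) (u : L) (w : BC M) :
    bc2 f (a ⊗ₜ u) w = a • (f u).baseChange KK w := by
  simp [bc2]

theorem bc2_tmul (f : L →ₗ[ZMod 2] M →ₗ[ZMod 2] V) (a b : KK) (u : L) (v : M) :
    bc2 f (a ⊗ₜ u) (b ⊗ₜ v) = (a * b) ⊗ₜ f u v := by
  rw [bc2_tmul', LinearMap.baseChange_tmul, smul_tmul', smul_eq_mul]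

theorem bc2_equivariant {f : L →ₗ[ZMod 2] M →ₗ[ZMod 2] V} {x : End (ZMod 2) L}
    {y : End (ZMod 2) M} {z : End (ZMod 2) V} (h : ∀ u v, f (x u) (y v) = z (f u v)) (e : BC L)
    (g : BC M) : bc2 f (x.baseChange KK e) (y.baseChange KK g) = z.baseChange KK (bc2 f e g) := by
  induction e using TensorProduct.induction_on with
  | zero => simp
  | add a b ha hb => simp only [map_add, LinearMap.add_apply, ha, hb]
  | tmul a u =>
    induction g using TensorProduct.induction_on with
    | zero => simp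
    | add a b ha hb => simp only [map_add, ha, hb]
    | tmul b v => simp only [LinearMap.baseChange_tmul, bc2_tmul, h]

theorem bc2_eigen {f : L →ₗ[ZMod 2] M →ₗ[ZMod 2] V} {x : End (ZMod 2) L}
    {y : End (ZMod 2) M} {z : End (ZMod 2) V} (h : ∀ u v, f (x u) (y v) = z (f u v)) {e : BC L}
    {g : BC M} {μ ν : KK} (he : x.baseChange KK e = μ • e) (hg : y.baseChange KK g = ν • g) :
    z.baseChange KK (bc2 f e g) = (μ * ν) • bc2 f e g := by
  rw [← bc2_equivariant h, he, hg, map_smul, map_smul, LinearMap.smul_apply, smul_smul, mul_comm]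

theorem bc_injective {f : L →ₗ[ZMod 2] M} (hf : Function.Injective f) :
    Function.Injective (f.baseChange KK) :=
  Module.Flat.lTensor_preserves_injective_linearMap _ hf

theorem eq_zero_of_bc2 {f : L →ₗ[ZMod 2] M →ₗ[ZMod 2] V} (h : bc2 f = 0) : f = 0 := by
  ext u v
  have := bc2_tmul f 1 1 u v
  rw [h, one_mul] at this
  exact Module.FaithfullyFlat.one_tmul_eq_zero_iff (ZMod 2) _ _ |>.1 this.symm

theorem bc2_symm {f : L →ₗ[ZMod 2] L →ₗ[ZMod 2] V} (h : ∀ u v, f u v = f v u) (e g : BC L) :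
    bc2 f e g = bc2 f g e := by
  induction e using TensorProduct.induction_on with
  | zero => simp
  | add a b ha hb => simp only [map_add, LinearMap.add_apply, ha, hb]
  | tmul a u =>
    induction g using TensorProduct.induction_on with
    | zero => simp
    | add a b ha hb => simp only [map_add, LinearMap.add_apply, ha, hb]
    | tmul b v => rw [bc2_tmul, bc2_tmul, mul_comm, h]

theorem add_self_bc (w : BC L) : w + w = 0 := by
  rw [← two_smul KK, show (2 : KK) = 0 from CharTwo.two_eq_zero, zero_smul]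

theorem add_self' (w : L) : w + w = 0 := by
  rw [← two_smul (ZMod 2), show (2 : ZMod 2) = 0 from rfl, zero_smul]

theorem symm_of_alt {f : L →ₗ[ZMod 2] L →ₗ[ZMod 2] V} (h : ∀ u, f u u = 0) (u v : L) :
    f u v = f v u := by
  have := h (u + v)
  simp only [map_add, LinearMap.add_apply, h, zero_add, add_zero] at this
  rw [← add_zero (f u v), ← this, add_left_comm, add_self', add_zero]

theorem bc2_alt {f : L →ₗ[ZMod 2] L →ₗ[ZMod 2] V} (h : ∀ u, f u u = 0) (e : BC L) :
    bc2 f e e = 0 := by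
  induction e using TensorProduct.induction_on with
  | zero => simp
  | add a b ha hb =>
    simp only [map_add, LinearMap.add_apply, ha, hb, zero_add, add_zero]
    rw [bc2_symm (symm_of_alt h) a b, add_self_bc]
  | tmul a u => rw [bc2_tmul, h, tmul_zero]

section Eigen

variable {x : End (ZMod 2) L}

theorem fr_eigen {e : BC L} {μ : KK} (he : x.baseChange KK e = μ • e) :
    x.baseChange KK (fr L e) = μ ^ 2 • fr L e := by
  rw [← fr_bc, he, fr_smul]

theorem fr_symm_eigen {e : BC L} {ρ : KK} (he : x.baseChange KK e = ρ ^ 2 • e) :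
    x.baseChange KK ((fr L).symm e) = ρ • (fr L).symm e := by
  apply (fr L).injective
  rw [fr_bc, fr_smul, LinearEquiv.apply_symm_apply, he]

theorem pow_eigen {e : BC L} {μ : KK} (he : x.baseChange KK e = μ • e) (j : ℕ) :
    (x ^ j).baseChange KK e = μ ^ j • e := by
  induction j with
  | zero => simp
  | succ j ih =>
    rw [pow_succ, LinearMap.baseChange_mul, Module.End.mul_apply, he, map_smul, ih, smul_smul,
      pow_succ']

theorem pow_ne_one_of_injective {e : BC L} {μ : KK} (he : x.baseChange KK e = μ • e) (h0 : e ≠ 0)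
    {j : ℕ} (hj : Function.Injective (x ^ j - 1 : End (ZMod 2) L)) : μ ^ j ≠ 1 := fun h =>
  h0 (bc_injective hj (by
    rw [LinearMap.baseChange_sub, LinearMap.sub_apply, pow_eigen he, h, map_zero]
    simp [LinearMap.baseChange_one]))

theorem eq_zero_of_eigen [Finite L] {N : ℕ} (hN : Odd N) (hx : x ^ N = 1) {W : Type*}
    [AddCommGroup W] [Module KK W] (g : BC L →ₗ[KK] W)
    (h : ∀ (μ : KK) e, x.baseChange KK e = μ • e → g e = 0) : g = 0 := by
  have hs : Module.End.IsSemisimple (x.baseChange KK) := by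
    refine Module.End.isSemisimple_of_squarefree_aeval_eq_zero (p := Polynomial.X ^ N - 1)
      ((Polynomial.X_pow_sub_one_separable_iff.2 ?_).squarefree) ?_
    · rw [Ne, CharP.cast_eq_zero_iff KK 2]
      exact hN.not_two_dvd_nat
    · rw [map_sub, map_pow, Polynomial.aeval_X, map_one, ← LinearMap.baseChange_pow, hx,
        LinearMap.baseChange_one, sub_self]
  rw [← LinearMap.ker_eq_top, eq_top_iff, ← hs.iSup_eigenspace_eq_top]
  exact iSup_le fun μ e he => h μ e (Module.End.mem_eigenspace_iff.1 he)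

theorem exists_eigen_pair [Finite L] {N : ℕ} (hN : Odd N) (hx : x ^ N = 1)
    {f : L →ₗ[ZMod 2] L →ₗ[ZMod 2] V} (hf : f ≠ 0) : ∃ (μ : KK) (e : BC L) (ν : KK) (g : BC L), x.baseChange KK e = μ • e ∧
      x.baseChange KK g = ν • g ∧ bc2 f e g ≠ 0 := by
  by_contra hcon
  push Not at hcon
  exact hf (eq_zero_of_bc2 (eq_zero_of_eigen hN hx _ fun μ e he =>
    eq_zero_of_eigen hN hx _ fun ν g hg => hcon μ e ν g he hg))

end Eigen

/-- the arithmetic of the order `d` of the automorphism of a space with `2 ^ n` elements -/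
structure Num (n d : ℕ) : Prop where
  one_lt : 1 < d
  dvd : d ∣ 2 ^ n - 1
  not_dvd : ∀ k, 0 < k → k < n → ¬ d ∣ 2 ^ k - 1
  not_dvd_n : ¬ d ∣ n
  w : ∀ j < n, ∀ k < n, 1 + 2 ^ j ≡ 2 ^ k [MOD d] → j = 0

theorem Num.inj {n d : ℕ} (h : Num n d) {ρ : KK} (hρ : orderOf ρ = d) {i k : ℕ} (hi : i < n)
    (hk : k < n) (e : ρ ^ 2 ^ i = ρ ^ 2 ^ k) : i = k := by
  have h0 : ρ ≠ 0 := by
    rintro rfl
    have := h.one_lt
    rw [← hρ, orderOf_zero] at this
    omega
  wlog hik : i ≤ k generalizing i k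
  · exact (this hk hi e.symm (not_le.1 hik).le).symm
  obtain ⟨c, rfl⟩ := Nat.exists_eq_add_of_le hik
  by_contra hne
  refine h.not_dvd c (by omega) (by omega) ?_
  rw [← hρ, orderOf_dvd_iff_pow_eq_one]
  have h1 : ρ = ρ ^ 2 ^ c := by
    apply (iterateFrobenius KK 2 i).injective
    rw [iterateFrobenius_def, iterateFrobenius_def, ← pow_mul, ← pow_add, add_comm c, e]
  apply mul_right_cancel₀ h0
  rw [← pow_succ, Nat.sub_add_cancel Nat.one_le_two_pow, ← h1, one_mul]

/-- `x` acts semiregularly, with order `d`, on the space with `2 ^ n` elements. -/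
structure VSpec (x : End (ZMod 2) V) (n d : ℕ) : Prop where
  card : Nat.card V = 2 ^ n
  pow : x ^ d = 1
  inj : ∀ j, ¬ d ∣ j → Function.Injective (x ^ j - 1 : End (ZMod 2) V)
  num : Num n d

/-- eigenvalues after extension of scalars -/
def Eig (x : End (ZMod 2) V) (κ : KK) : Prop := ∃ w : BC V, w ≠ 0 ∧ x.baseChange KK w = κ • w

variable {x : End (ZMod 2) V} {n d : ℕ}

theorem Eig.sqrt {ρ : KK} (h : Eig x (ρ ^ 2)) : Eig x ρ := by
  obtain ⟨w, h0, hw⟩ := h
  exact ⟨_, (LinearEquiv.map_ne_zero_iff _).2 h0, fr_symm_eigen hw⟩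

theorem Eig.sq {ρ : KK} (h : Eig x ρ) : Eig x (ρ ^ 2) := by
  obtain ⟨w, h0, hw⟩ := h
  exact ⟨_, (LinearEquiv.map_ne_zero_iff _).2 h0, fr_eigen hw⟩

theorem VSpec.pow_eq_one (h : VSpec x n d) {κ : KK} (hκ : Eig x κ) : κ ^ d = 1 := by
  obtain ⟨w, h0, hw⟩ := hκ
  have := pow_eigen hw d
  rw [h.pow, LinearMap.baseChange_one, Module.End.one_apply] at this
  exact smul_left_injective KK h0 (this.symm.trans (one_smul _ _).symm)

theorem VSpec.orderOf_eq (h : VSpec x n d) {κ : KK} (hκ : Eig x κ) : orderOf κ = d := by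
  refine Nat.dvd_antisymm (orderOf_dvd_of_pow_eq_one (h.pow_eq_one hκ)) ?_
  obtain ⟨w, h0, hw⟩ := hκ
  by_contra hd
  exact pow_ne_one_of_injective hw h0 (h.inj _ hd) (pow_orderOf_eq_one κ)

theorem VSpec.spec [Finite V] (h : VSpec x n d) {κ κ' : KK} {w w' : BC V} (h0 : w ≠ 0)
    (hw : x.baseChange KK w = κ • w) (h0' : w' ≠ 0) (hw' : x.baseChange KK w' = κ' • w') :
    (∃ k < n, κ' = κ ^ 2 ^ k) ∧ (κ' = κ → ∃ c : KK, w' = c • w) := by
  classical
  have hv : ∀ k : ℕ, (fr V ^ k) w ≠ 0 ∧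
      x.baseChange KK ((fr V ^ k) w) = κ ^ 2 ^ k • (fr V ^ k) w := fun k => by
    refine ⟨(LinearEquiv.map_ne_zero_iff _).2 h0, ?_⟩
    induction k with
    | zero => simpa using hw
    | succ k ih => rw [pow_succ', LinearEquiv.mul_apply, fr_eigen ih, ← pow_mul, pow_succ]
  have hinj : Function.Injective fun k : Fin n => κ ^ 2 ^ (k : ℕ) := fun i k e =>
    Fin.ext (h.num.inj (h.orderOf_eq ⟨w, h0, hw⟩) i.2 k.2 e)
  have hli := Module.End.eigenvectors_linearIndependent' (x.baseChange KK) _ hinj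
    (fun k : Fin n => (fr V ^ (k : ℕ)) w) fun k =>
      ⟨Module.End.mem_eigenspace_iff.2 (hv k).2, (hv k).1⟩
  have hn : 0 < n := Nat.pos_of_ne_zero fun e => h.num.not_dvd_n (e ▸ dvd_zero d)
  have : Nonempty (Fin n) := ⟨⟨0, hn⟩⟩
  have hfr : Fintype.card (Fin n) = finrank KK (BC V) := by
    have := Module.natCard_eq_pow_finrank (K := ZMod 2) (V := V)
    rw [h.card, Nat.card_zmod] at this
    rw [Fintype.card_fin, Module.finrank_baseChange, Nat.pow_right_injective le_rfl this]
  let b := basisOfLinearIndependentOfCardEqFinrank hli hfr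
  have hb : ∀ k : Fin n, b k = (fr V ^ (k : ℕ)) w := fun k => by simp [b]
  have key : ∀ k : Fin n, κ' * b.repr w' k = κ ^ 2 ^ (k : ℕ) * b.repr w' k := fun k => by
    have e1 : x.baseChange KK w' = ∑ i : Fin n, (κ ^ 2 ^ (i : ℕ) * b.repr w' i) • b i := by
      conv_lhs => rw [← b.sum_repr w', map_sum]
      refine Finset.sum_congr rfl fun i _ => ?_
      rw [map_smul, hb, (hv i).2, smul_smul, mul_comm]
    have e2 := congrArg (fun v => b.repr v k) (hw'.symm.trans e1)
    simpa [Finsupp.single_apply] using e2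
  constructor
  · by_contra hcon
    push Not at hcon
    refine h0' (b.repr.injective (Finsupp.ext fun k => ?_))
    rw [map_zero, Finsupp.zero_apply]
    exact (mul_eq_mul_right_iff.1 (key k)).resolve_left (hcon k k.2)
  · rintro rfl
    refine ⟨b.repr w' ⟨0, hn⟩, ?_⟩
    conv_lhs => rw [← b.sum_repr w']
    rw [Finset.sum_eq_single ⟨0, hn⟩ (fun k _ hk => ?_) (by simp), hb]
    · simp
    · rw [(mul_eq_mul_right_iff.1 (key k)).resolve_left fun e => hk (hinj ?_), zero_smul]
      simpa using e.symm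

theorem VSpec.exists_pow [Finite V] (h : VSpec x n d) {κ κ' : KK} (hκ : Eig x κ) (hκ' : Eig x κ') :
    ∃ k < n, κ' = κ ^ 2 ^ k := by
  obtain ⟨w, h0, hw⟩ := hκ
  obtain ⟨w', h0', hw'⟩ := hκ'
  exact (h.spec h0 hw h0' hw').1

theorem VSpec.eq_of_mul [Finite V] (h : VSpec x n d) {κ κ' : KK} (hκ : Eig x κ) (hκ' : Eig x κ')
    (hm : Eig x (κ * κ')) : κ = κ' := by
  obtain ⟨j, hj, rfl⟩ := h.exists_pow hκ hκ'
  obtain ⟨k, hk, e⟩ := h.exists_pow hκ hm
  rw [← pow_succ', add_comm] at e
  have hfin : IsOfFinOrder κ := orderOf_pos_iff.1 (by rw [h.orderOf_eq hκ]; exact h.num.one_lt.le)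
  rw [h.num.w j hj k hk (h.orderOf_eq hκ ▸ hfin.pow_eq_pow_iff_modEq.1 e), pow_zero, pow_one]

/-- If all conjugates of `ρ` multiply `ν` into the spectrum then `ν ^ n = 1`. -/
theorem VSpec.pow_n [Finite V] (h : VSpec x n d) {ρ ν : KK} (hρ : orderOf ρ = d)
    (hm : ∀ i < n, Eig x (ρ ^ 2 ^ i * ν)) : ν ^ n = 1 := by
  classical
  have hn : 0 < n := Nat.pos_of_ne_zero fun e => h.num.not_dvd_n (e ▸ dvd_zero d)
  set κ := ρ ^ 2 ^ 0 * ν
  have hκ := hm 0 hn
  have hν : ν ≠ 0 := fun e => by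
    have := h.pow_eq_one hκ
    rw [e, mul_zero, zero_pow (by have := h.num.one_lt; omega)] at this
    exact zero_ne_one this
  choose k hk e using fun i : Fin n => h.exists_pow hκ (hm i i.2)
  have hinj : Function.Injective fun i : Fin n => (⟨k i, hk i⟩ : Fin n) := fun i j e' => by
    have : k i = k j := congrArg Fin.val e'
    exact Fin.ext (h.num.inj hρ i.2 j.2 (mul_right_cancel₀ hν (by rw [e, e, this])))
  have prod : ∀ a : KK, orderOf a = d → ∏ i : Fin n, a ^ 2 ^ (i : ℕ) = 1 := fun a ha => by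
    rw [Finset.prod_pow_eq_pow_sum, Fin.sum_univ_eq_sum_range (fun i => 2 ^ i), Nat.geomSum_eq le_rfl,
      ← orderOf_dvd_iff_pow_eq_one, ha]
    simpa using h.num.dvd
  have := Finset.prod_congr rfl fun (i : Fin n) (_ : i ∈ Finset.univ) => e i
  rw [Finset.prod_mul_distrib, prod ρ hρ, one_mul, Finset.prod_const, Finset.card_univ,
    Fintype.card_fin] at this
  rw [this, ← prod κ (h.orderOf_eq hκ)]
  exact (Finite.injective_iff_bijective.1 hinj).prod_comp fun i : Fin n => κ ^ 2 ^ (i : ℕ)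

end Cfsg.Agent.Suz2
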