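import Cfsg.Agent.Lib.Suz2.Lin

/-!
The two eigenvalue arguments in Higman's theorem on Suzuki 2-groups.
-/

set_option autoImplicit false

namespace Cfsg.Agent.Suz2

open Module TensorProduct

variable {L V : Type*} [AddCommGroup L] [Module (ZMod 2) L] [AddCommGroup V] [Module (ZMod 2) V]
  [Finite L] [Finite V] {x : End (ZMod 2) V} {y : End (ZMod 2) L} {n d N : ℕ}

/-- There is no nonzero equivariant alternating map `V × V → V`. -/
theorem alt_eq_zero (h : VSpec x n d) (hN : Odd N) (hy : y ^ N = 1) (π : L →ₗ[ZMod 2] V)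
    (hπ : Function.Injective π) (hπy : ∀ u, π (y u) = x (π u)) (β : L →ₗ[ZMod 2] L →ₗ[ZMod 2] V)
    (alt : ∀ u, β u u = 0) (hβ : ∀ u v, β (y u) (y v) = x (β u v)) : β = 0 := by
  by_contra hne
  obtain ⟨μ, e, ν, g, he, hg, h0⟩ := exists_eigen_pair hN hy hne
  have he0 : e ≠ 0 := by rintro rfl; simp at h0
  have hg0 : g ≠ 0 := by rintro rfl; simp at h0
  have hp : ∀ {κ : KK} {w : BC L}, y.baseChange KK w = κ • w →
      x.baseChange KK (π.baseChange KK w) = κ • π.baseChange KK w := fun {κ w} hw => by
    rw [← map_smul, ← hw, ← LinearMap.comp_apply, ← LinearMap.comp_apply,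
      ← LinearMap.baseChange_comp, ← LinearMap.baseChange_comp, LinearMap.ext (f := π ∘ₗ y) (g := x ∘ₗ π) hπy]
  have hi := bc_injective hπ
  have he1 := (map_ne_zero_iff _ hi).2 he0
  have hg1 := (map_ne_zero_iff _ hi).2 hg0
  have e1 := h.eq_of_mul ⟨_, he1, hp he⟩ ⟨_, hg1, hp hg⟩ ⟨_, h0, bc2_eigen hβ he hg⟩
  obtain ⟨c, hc⟩ := (h.spec he1 (hp he) hg1 (hp hg)).2 e1.symm
  rw [← map_smul] at hc
  rw [hi hc, map_smul, bc2_alt alt, smul_zero] at h0
  exact h0 rfl

omit [Finite L] [Finite V] in
theorem bc2_ident {B β : L →ₗ[ZMod 2] L →ₗ[ZMod 2] V} {η : L →ₗ[ZMod 2] V →ₗ[ZMod 2] V}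
    (h : ∀ u v, η v (B u u) + η u (β u v) = β u v) (e f : BC L) :
    bc2 η f (bc2 B e e) + bc2 η e (bc2 β e f) = bc2 β (fr L e) f := by
  have pol : ∀ e e' f : BC L, bc2 η f (bc2 B e e') + bc2 η e (bc2 β e' f) +
      (bc2 η f (bc2 B e' e) + bc2 η e' (bc2 β e f)) = 0 := by
    intro e e' f
    induction e using TensorProduct.induction_on with
    | zero => simp
    | add a b ha hb =>
      simp only [map_add, LinearMap.add_apply]
      linear_combination (norm := abel1) ha + hb
    | tmul a u =>
    induction e' using TensorProduct.induction_on with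
    | zero => simp
    | add a b ha hb =>
      simp only [map_add, LinearMap.add_apply]
      linear_combination (norm := abel1) ha + hb
    | tmul a' u' =>
    induction f using TensorProduct.induction_on with
    | zero => simp
    | add a b ha hb =>
      simp only [map_add, LinearMap.add_apply]
      linear_combination (norm := abel1) ha + hb
    | tmul b v =>
      have := h (u + u') v
      simp only [map_add, LinearMap.add_apply] at this
      have e : η v (B u u') + η u (β u' v) + (η v (B u' u) + η u' (β u v)) = 0 := by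
        linear_combination (norm := abel1) this - h u v - h u' v
      simp only [bc2_tmul]
      rw [show b * (a * a') = a * a' * b by ring, show a * (a' * b) = a * a' * b by ring,
        show b * (a' * a) = a * a' * b by ring, show a' * (a * b) = a * a' * b by ring,
        ← tmul_add, ← tmul_add, ← tmul_add, e, tmul_zero]
  induction e using TensorProduct.induction_on with
  | zero => simp
  | add a b ha hb =>
    simp only [map_add, LinearMap.add_apply]
    linear_combination (norm := abel1) ha + hb + pol a b f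
  | tmul a u =>
    induction f using TensorProduct.induction_on with
    | zero => simp
    | add a b ha hb =>
      simp only [map_add, LinearMap.add_apply]
      linear_combination (norm := abel1) ha + hb
    | tmul b v =>
      simp only [bc2_tmul, fr_tmul]
      rw [show b * (a * a) = a ^ 2 * b by ring, show a * (a * b) = a ^ 2 * b by ring, ← tmul_add, h]

omit [Finite L] [Finite V] in
theorem bc2_diag {B : L →ₗ[ZMod 2] L →ₗ[ZMod 2] V} (h : ∀ u, B (y u) (y u) = x (B u u))
    {e : BC L} {μ : KK} (he : y.baseChange KK e = μ • e) :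
    x.baseChange KK (bc2 B e e) = μ ^ 2 • bc2 B e e := by
  have key : ∀ e g : BC L, bc2 (B.compl₁₂ y y - B.compr₂ x) e g =
      bc2 B (y.baseChange KK e) (y.baseChange KK g) - x.baseChange KK (bc2 B e g) := by
    intro e g
    induction e using TensorProduct.induction_on with
    | zero => simp
    | add a b ha hb =>
      simp only [map_add, LinearMap.add_apply, ha, hb]
      abel
    | tmul a u =>
    induction g using TensorProduct.induction_on with
    | zero => simp
    | add a b ha hb =>
      simp only [map_add, ha, hb]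
      abel
    | tmul b v => simp [bc2_tmul, tmul_sub]
  have := key e e
  rw [bc2_alt (fun u => by simp [h]), eq_comm, sub_eq_zero, he, map_smul, map_smul,
    LinearMap.smul_apply, smul_smul] at this
  rw [← this, sq]

/-- The class three configuration does not occur. -/
theorem quad_eq_zero (h : VSpec x n d) (hN : Odd N) (hy : y ^ N = 1)
    (hyi : ∀ j, ¬ d ∣ j → Function.Injective (y ^ j - 1 : End (ZMod 2) L))
    (β : L →ₗ[ZMod 2] L →ₗ[ZMod 2] V) (η : L →ₗ[ZMod 2] V →ₗ[ZMod 2] V) (σ : L → V)
    (hσ : ∀ u v, σ (u + v) = σ u + σ v + β u v) (alt : ∀ u, β u u = 0)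
    (hβ : ∀ u v, β (y u) (y v) = x (β u v))
    (hσy : ∀ u, σ (y u) = x (σ u)) (id : ∀ u v, η v (σ u) + η u (β u v) = β u v) : β = 0 := by
  have h00 : σ 0 = 0 := by simpa using hσ 0 0
  let Q : QuadraticMap (ZMod 2) L V :=
    { toFun := σ
      toFun_smul := fun a u => by
        rcases (by decide : ∀ a : ZMod 2, a = 0 ∨ a = 1) a with rfl | rfl <;> simp [h00]
      exists_companion' := ⟨β, hσ⟩ }
  obtain ⟨B, hB⟩ := LinearMap.BilinMap.toQuadraticMap_surjective Q
  have hB' : ∀ u, B u u = σ u := fun u => congrArg (fun Q : QuadraticMap (ZMod 2) L V => Q u) hB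
  have ident := bc2_ident (B := B) (β := β) (η := η) fun u v => by rw [hB', id]
  have diag := fun {e μ} => bc2_diag (x := x) (y := y) (B := B) (e := e) (μ := μ) fun u => by
    rw [hB', hB', hσy]
  have ord : ∀ {μ : KK} {e : BC L}, y.baseChange KK e = μ • e → e ≠ 0 → ∀ j, μ ^ j = 1 → d ∣ j :=
    fun he h0 j hj => by_contra fun hd => pow_ne_one_of_injective he h0 (hyi j hd) hj
  have symm := bc2_symm (symm_of_alt alt)
  -- the first eigenvalue of a pair with nonzero product lies in the spectrum of `x`
  have key : ∀ {μ ν : KK} {e g : BC L}, y.baseChange KK e = μ • e → y.baseChange KK g = ν • g →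
      bc2 β e g ≠ 0 → Eig x μ := by
    intro μ ν e g he hg h0
    by_contra hμ
    have step : ∀ i : ℕ, ∃ (ρ : KK) (e' : BC L), ρ ^ 2 ^ i = μ ∧ y.baseChange KK e' = ρ • e' ∧
        bc2 β e' g ≠ 0 ∧ ∀ k ≤ i, Eig x (ρ ^ 2 ^ k * ν) := by
      intro i
      induction i with
      | zero =>
        refine ⟨μ, e, by simp, he, h0, fun k hk => ?_⟩
        rw [Nat.le_zero.1 hk, pow_zero, pow_one]
        exact ⟨_, h0, bc2_eigen hβ he hg⟩
      | succ i ih =>
        obtain ⟨ρ, e', h1, h2, h3, h4⟩ := ih
        obtain ⟨ρ, rfl⟩ := IsAlgClosed.exists_pow_nat_eq ρ two_pos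
        have h5 := fr_symm_eigen h2
        have h6 : bc2 B ((fr L).symm e') ((fr L).symm e') = 0 := by
          by_contra hne
          have h7 : ∀ j : ℕ, Eig x ((ρ ^ 2) ^ 2 ^ j) := fun j => by
            induction j with
            | zero => simpa using ⟨_, hne, diag h5⟩
            | succ j ih => rw [pow_succ 2 j, pow_mul]; exact ih.sq
          exact hμ (h1 ▸ h7 i)
        have h7 : bc2 β ((fr L).symm e') g ≠ 0 := fun e => h3 (by
          rw [← (fr L).apply_symm_apply e', ← ident, h6, e, map_zero, map_zero, add_zero])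
        refine ⟨ρ, _, by rw [pow_succ', pow_mul, h1], h5, h7, fun k hk => ?_⟩
        rcases k with _ | k
        · rw [pow_zero, pow_one]
          exact ⟨_, h7, bc2_eigen hβ h5 hg⟩
        · rw [pow_succ', pow_mul]
          exact h4 k (by omega)
    obtain ⟨ρ, e', -, h2, h3, h4⟩ := step (n + 1)
    have he0 : e' ≠ 0 := by rintro rfl; simp at h3
    have hg0 : g ≠ 0 := by rintro rfl; simp at h0
    have hρ : orderOf ρ = d := by
      refine Nat.dvd_antisymm (orderOf_dvd_of_pow_eq_one ?_) (ord h2 he0 _ (pow_orderOf_eq_one ρ))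
      have e0 := h.pow_eq_one (h4 0 (by omega))
      have e1 := h.pow_eq_one (h4 1 (by omega))
      rw [pow_one, sq, mul_assoc, mul_pow] at e1
      rw [pow_zero, pow_one] at e0
      rwa [e0, mul_one] at e1
    exact h.num.not_dvd_n (ord hg hg0 _ (h.pow_n hρ fun i hi => h4 i (by omega)))
  by_contra hne
  obtain ⟨μ, e, ν, g, he, hg, h0⟩ := exists_eigen_pair hN hy hne
  have hμ := key he hg h0
  obtain rfl : μ = ν := h.eq_of_mul hμ (key hg he (symm e g ▸ h0)) ⟨_, h0, bc2_eigen hβ he hg⟩
  obtain ⟨ρ, rfl⟩ := IsAlgClosed.exists_pow_nat_eq μ two_pos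
  have form : ∀ {e g : BC L}, y.baseChange KK e = ρ ^ 2 • e → y.baseChange KK g = ρ ^ 2 • g →
      bc2 β e g = bc2 η g (bc2 B ((fr L).symm e) ((fr L).symm e)) := by
    intro e g he hg
    have : bc2 β ((fr L).symm e) g = 0 := by
      by_contra hne
      have e1 := h.eq_of_mul hμ.sqrt hμ ⟨_, hne, bc2_eigen hβ (fr_symm_eigen he) hg⟩
      have e2 := h.orderOf_eq hμ.sqrt
      have h1 := h.num.one_lt
      rcases (mul_left_eq_self₀.1 (sq ρ ▸ e1.symm)) with e | e
      · rw [e, orderOf_one] at e2; omega
      · rw [e, orderOf_zero] at e2; omega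
    rw [← (fr L).apply_symm_apply e, ← ident, this, map_zero, add_zero,
      LinearEquiv.symm_apply_apply]
  have s1 : bc2 B ((fr L).symm e) ((fr L).symm e) ≠ 0 := fun e => h0 (by
    rw [form he hg, e, map_zero])
  have s2 : bc2 B ((fr L).symm g) ((fr L).symm g) ≠ 0 := fun e' => h0 (by
    rw [symm, form hg he, e', map_zero])
  obtain ⟨c, hc⟩ := (h.spec s2 (diag (fr_symm_eigen hg)) s1 (diag (fr_symm_eigen he))).2 rfl
  exact h0 (by rw [form he hg, hc, map_smul, ← form hg hg, bc2_alt alt, smul_zero])

end Cfsg.Agent.Suz2
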