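import Cfsg.Agent.Lib.Suz2.Steps

/-!
Higman's theorem: a Suzuki 2-group is special with centre `Ω₁`.
-/

set_option autoImplicit false

namespace Cfsg.Agent.Suz2

open Subgroup Module
open scoped commutatorElement

universe u

variable {G : Type u} [Group G] [Finite G] {Y : Set (MulAut G)} {x : MulAut G} {n d : ℕ}
  {A C : Subgroup G}

/-- maximal abelian normal invariant subgroups -/
structure MaxAb (Y : Set (MulAut G)) (A : Subgroup G) : Prop extends AbInv Y A where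
  normal : A.Normal
  max : ∀ B : Subgroup G, B.Normal → AbInv Y B → A ≤ B → B = A

theorem exists_maxAb {B : Subgroup G} [hn : B.Normal] (hB : AbInv Y B) :
    ∃ A, MaxAb Y A ∧ B ≤ A := by
  obtain ⟨A, h1, h2⟩ := Finite.exists_le_maximal (p := fun A : Subgroup G => A.Normal ∧ AbInv Y A)
    ⟨hn, hB⟩
  exact ⟨A, ⟨h2.1.2, h2.1.1, fun B h3 h4 h5 => (h2.eq_of_le ⟨h3, h4⟩ h5).symm⟩, h1⟩

omit [Finite G] in
theorem commute_of_sq (h : Tr Y) {u v : G} (h2 : ⁅u, v⁆ ^ 2 = 1) : Commute (u ^ 2) v := by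
  rw [← commutatorElement_eq_one_iff_commute, comm_sq_left, h2, mul_one,
    commutatorElement_eq_one_iff_mul_comm]
  exact mem_center_iff.1 (h.cen _ h2) u

theorem Hyp.main (h : Hyp Y x n d) (hA : MaxAb Y A) (h0 : A ≠ ⊥) (hC : Inv Y C) [C.Normal]
    (hAC : A < C) (hsq : ∀ u ∈ C, u ^ 2 ∈ A) :
    (∀ a ∈ sq A, a ^ 2 = 1) ∧ ∀ u ∈ C, (u ^ 2) ^ 2 = 1 ∧ ∀ v ∈ C, ⁅u, v⁆ ^ 2 = 1 := by
  have := hA.normal
  have hA' := hA.toAbInv
  have hcm : ∀ u ∈ C, ∀ v ∈ C, ⁅u, v⁆ ∈ A := fun u hu v hv =>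
    PGrp.commutator_le_of_sq_mem (N := A.subgroupOf C) (fun u => hsq u u.2)
      (commutator_mem_commutator (mem_top (⟨u, hu⟩ : C)) (mem_top (⟨v, hv⟩ : C)))
  have nab : ¬ ∀ u ∈ C, ∀ v ∈ C, Commute u v := fun e => hAC.ne' (hA.max C ‹_› ⟨e, hC⟩ hAC.le)
  by_cases h2 : sq A = ⊥
  · have : ∀ a ∈ A, a ^ 2 = 1 := fun a ha => mem_bot.1 (h2 ▸ sq_mem_sq ha)
    exact ⟨fun a ha => this a (sq_le A ha), fun u hu => ⟨this _ (hsq u hu),
      fun v hv => this _ (hcm u hu v hv)⟩⟩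
  by_cases h4 : sq (sq A) = ⊥
  swap
  · have h5 := fun u hu a ha => h.comm_mem_sq_sq hA' hC hsq h4 (u := u) hu (a := a) ha
    refine absurd (h.commute_of_comm hA' h0 hC hAC.le hsq h5 fun u hu v hv => ?_) nab
    refine h.toTr.mem_sq_of_sq hA' h2 (hcm u hu v hv) ?_
    have e := comm_sq_left u v
    rw [← commutatorElement_inv, ← inv_mul_eq_iff_eq_mul] at e
    exact e ▸ mul_mem (inv_mem (h5 u hu _ (hcm u hu v hv))) (inv_mem (h5 v hv _ (hsq u hu)))
  have h5 : ∀ a ∈ sq A, a ^ 2 = 1 := fun a ha => mem_bot.1 (h4 ▸ sq_mem_sq ha)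
  have h6 := h.comm_sq_eq_one hA' hC hsq hcm h2 h5
  refine ⟨h5, fun u hu => ⟨?_, h6 u hu⟩⟩
  by_contra hne
  have : A ⊓ centralizer (C : Set G) = A := h.toTr.eq_of_not_mem_sq hA'
    (fun y hy a ha => ⟨hA'.inv y hy a ha.1, fun c hc => by
      obtain ⟨c, hc', rfl⟩ := hC.exists_eq hy hc
      rw [← map_mul, ← map_mul, ha.2 c hc']⟩) inf_le_left (b := u ^ 2)
    ⟨hsq u hu, fun c hc => (commute_of_sq h.toTr (h6 u hu c hc)).symm⟩ fun e => hne (h5 _ e)
  refine nab (h.commute_of_comm hA' h0 hC hAC.le hsq (fun u hu a ha => ?_)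
    fun u hu v hv => h.toTr.om_le hA'.sq.inv h2 (h6 u hu v hv))
  rw [commutatorElement_eq_one_iff_mul_comm.2 ((this.ge ha).2 u hu)]
  exact one_mem _

theorem frattini_le_of_comm (h : Tr Y) {b : G} (hb : ∀ g : G, ⁅b, g⁆ ^ 2 = 1) :
    frattini G ≤ centralizer {b} := by
  rw [PGrp.frattini_eq_closure_sq h.two, closure_le]
  rintro _ ⟨g, rfl⟩
  refine mem_centralizer_singleton_iff.2 (commute_of_sq h ?_)
  rw [← commutatorElement_inv, inv_pow, hb, inv_one]

theorem Hyp.sq_mem (h : Hyp Y x n d) (hA : MaxAb Y A) (h0 : A ≠ ⊥) (g : G) : g ^ 2 ∈ A := by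
  have := hA.normal
  have hA' := hA.toAbInv
  by_contra hg
  have hD : (A ⊔ frattini G).map (QuotientGroup.mk' A) ≠ ⊥ := fun e => hg (by
    rw [Subgroup.map_eq_bot_iff, QuotientGroup.ker_mk'] at e
    exact e (mem_sup_right (PGrp.pow_mem_frattini h.two g)))
  have := (inferInstance : (A ⊔ frattini G).Normal).map _ (QuotientGroup.mk'_surjective A)
  obtain ⟨_, ⟨u, hu, rfl⟩, hc, ho⟩ := PGrp.exists_mem_center_orderOf_eq (h.two.to_quotient A) hD
  let C : Subgroup G := (A ⊔ frattini G) ⊓ (Om (G ⧸ A)).comap (QuotientGroup.mk' A)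
  have mC : ∀ v, v ∈ C ↔ v ∈ A ⊔ frattini G ∧ (∀ g, ⁅v, g⁆ ∈ A) ∧ v ^ 2 ∈ A := fun v => by
    refine and_congr Iff.rfl (and_congr ?_ ?_)
    · rw [mem_center_iff, (QuotientGroup.mk'_surjective A).forall]
      refine forall_congr' fun g => ?_
      rw [eq_comm, ← commutatorElement_eq_one_iff_mul_comm, ← map_commutatorElement,
        QuotientGroup.mk'_apply, QuotientGroup.eq_one_iff]
    · rw [← map_pow, QuotientGroup.mk'_apply, QuotientGroup.eq_one_iff]
  have : (Om (G ⧸ A)).Normal := PGrp.normal_of_le_center fun _ h => h.1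
  have hC : Inv Y C := fun y hy v hv => by
    rw [mC] at hv ⊢
    refine ⟨(hA'.inv.sup inv_of_characteristic) y hy v hv.1, fun g => ?_, ?_⟩
    · obtain ⟨g, rfl⟩ := y.surjective g
      rw [← map_commutatorElement]
      exact hA'.inv y hy _ (hv.2.1 g)
    · rw [← map_pow]
      exact hA'.inv y hy _ hv.2.2
  have huC : u ∈ C := ⟨hu, hc, by rw [← ho, pow_orderOf_eq_one]⟩
  have huA : u ∉ A := fun e => by
    rw [QuotientGroup.mk'_apply, (QuotientGroup.eq_one_iff u).2 e] at ho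
    simp at ho
  have hAC : A < C := lt_of_le_of_ne (fun a ha => (mC a).2 ⟨mem_sup_left ha,
    fun g => sq_le A (h.toTr.comm_mem_sq hA' ha g), pow_mem ha 2⟩) fun e => huA (e ▸ huC)
  obtain ⟨h1, h2⟩ := h.main hA h0 hC hAC fun u hu => ((mC u).1 hu).2.2
  by_cases h3 : sq A = ⊥
  · have h4 : ∀ a ∈ A, a ^ 2 = 1 := fun a ha => mem_bot.1 (h3 ▸ sq_mem_sq ha)
    refine hAC.ne' (hA.max C inferInstance ⟨fun a ha b hb => ?_, hC⟩ hAC.le)
    have : A ⊔ frattini G ≤ centralizer {b} := sup_le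
      (fun a ha => mem_centralizer_singleton_iff.2 (mem_center_iff.1 (h.cen a (h4 a ha)) b).symm)
      (frattini_le_of_comm h.toTr fun g => h4 _ (((mC b).1 hb).2.1 g))
    exact mem_centralizer_singleton_iff.1 (this ha.1)
  · refine huA (h.toTr.mem_of_sq hA' h0 (h.toTr.om_le hA'.sq.inv h3 (h2 u huC).1) fun a ha => ?_)
    have : A ⊔ frattini G ≤ centralizer {a} := sup_le
      (fun b hb => mem_centralizer_singleton_iff.2 (hA'.comm b hb a ha))
      (frattini_le_of_comm h.toTr fun g => h1 _ (h.toTr.comm_mem_sq hA' ha g))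
    rw [commutatorElement_eq_one_iff_mul_comm.2 (mem_centralizer_singleton_iff.1 (this hu))]
    exact one_mem _

/-- Higman's theorem. -/
theorem Hyp.special (h : Hyp Y x n d) (hna : ¬ IsMulCommutative G) :
    commutator G = Om G ∧ frattini G = Om G ∧ center G = Om G := by
  have hZ : AbInv Y (center G) :=
    ⟨fun a _ b hb => mem_center_iff.1 hb a, inv_of_characteristic⟩
  obtain ⟨A, hA, hZA⟩ := exists_maxAb hZ
  have := hA.normal
  have hA' := hA.toAbInv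
  have hc : commutator G ≠ ⊥ := fun e => hna ⟨⟨fun a b =>
    commutatorElement_eq_one_iff_mul_comm.1 (mem_bot.1 (e ▸ commutator_mem_commutator (mem_top a)
      (mem_top b) : _ ∈ (⊥ : Subgroup G)))⟩⟩
  have : Nontrivial G := by
    by_contra hcon
    rw [not_nontrivial_iff_subsingleton] at hcon
    exact hc (Subsingleton.elim _ _)
  have h0 : A ≠ ⊥ := fun e => PGrp.inf_center_ne_bot h.two (N := ⊤) top_ne_bot
    (le_bot_iff.1 (inf_le_right.trans (e ▸ hZA)))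
  have ht : A < ⊤ := lt_top_iff_ne_top.2 fun e =>
    hna ⟨⟨fun a b => hA'.comm a (e ▸ mem_top a) b (e ▸ mem_top b)⟩⟩
  obtain ⟨h1, h2⟩ := h.main hA h0 inv_top ht fun u _ => h.sq_mem hA h0 u
  have h3 : frattini G ≤ Om G := by
    rw [PGrp.frattini_eq_closure_sq h.two, closure_le]
    rintro _ ⟨g, rfl⟩
    exact h.toTr.mem_Om.2 (h2 g trivial).1
  have h4 : Om G ≤ commutator G := fun z hz => h.toTr.om_le inv_of_characteristic hc hz.2
  have h5 := PGrp.commutator_le_frattini h.two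
  refine ⟨le_antisymm (h5.trans h3) h4, le_antisymm h3 (h4.trans h5),
    le_antisymm (fun z hz => ?_) fun z hz => hz.1⟩
  by_contra hne
  rw [h.toTr.mem_Om] at hne
  have h6 := h.toTr.eq_of_not_mem_sq hA' hZ.inv hZA hz fun e => hne (h1 z e)
  have h7 : sq A ≠ ⊥ := fun e => hne (mem_bot.1 (e ▸ sq_mem_sq (hZA hz)))
  refine ht.not_ge fun u _ => h.toTr.mem_of_sq hA' h0
    (h.toTr.om_le hA'.sq.inv h7 (h2 u trivial).1) fun a ha => ?_
  rw [commutatorElement_eq_one_iff_mul_comm.2 (mem_center_iff.1 (h6.ge ha) u)]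
  exact one_mem _

end Cfsg.Agent.Suz2
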