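import Cfsg.Agent.Lib.Suz2.Pres

/-!
The three steps of Higman's analysis of an elementary abelian section `C / A` above an invariant
abelian normal subgroup `A`.
-/

set_option autoImplicit false

namespace Cfsg.Agent.Suz2

open Subgroup Module
open scoped commutatorElement

universe u

theorem idem_scalar {V ι : Type*} [AddCommGroup V] [Finite ι] (S : Set ι) (η : ι → V →+ V)
    (idem : ∀ u ∈ S, ∀ v, η u (η u v) = η u v)
    (comm : ∀ u ∈ S, ∀ u' ∈ S, ∀ v, η u (η u' v) = η u' (η u v))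
    (trans : ∀ v w : V, v ≠ 0 → w ≠ 0 → ∃ φ : V →+ V, φ v = w ∧
      ∀ u ∈ S, ∃ u' ∈ S, η u (φ v) = φ (η u' v)) {u : ι} (hu : u ∈ S) :
    (∀ v, η u v = 0) ∨ ∀ v, η u v = v := by
  by_contra hcon
  push Not at hcon
  obtain ⟨⟨a, ha⟩, b, hb⟩ := hcon
  have ha0 : a ≠ 0 := by rintro rfl; simp at ha
  have key : ∀ T : Set ι, T.Finite → T ⊆ S → ∃ v ≠ 0, ∀ u ∈ T, η u v = 0 ∨ η u v = v := by
    intro T hT
    induction T, hT using Set.Finite.induction_on with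
    | empty => exact fun _ => ⟨a, ha0, by simp⟩
    | @insert u₀ T _ _ ih =>
      intro hsub
      obtain ⟨v, hv, h⟩ := ih ((Set.subset_insert _ _).trans hsub)
      have h0 := hsub (Set.mem_insert _ _)
      by_cases e : η u₀ v = 0
      · exact ⟨v, hv, Set.forall_mem_insert.2 ⟨.inl e, h⟩⟩
      · refine ⟨_, e, Set.forall_mem_insert.2 ⟨.inr (idem _ h0 v), fun u hu => ?_⟩⟩
        rw [comm u (hsub (Set.mem_insert_of_mem _ hu)) _ h0]
        exact (h u hu).imp (fun e => by rw [e, map_zero]) fun e => by rw [e]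
  obtain ⟨v, hv, h⟩ := key S (Set.toFinite S) subset_rfl
  have all : ∀ w, η u w = 0 ∨ η u w = w := fun w => by
    by_cases hw : w = 0
    · simp [hw]
    obtain ⟨φ, rfl, h2⟩ := trans v w hv hw
    obtain ⟨u', hu', e⟩ := h2 u hu
    rw [e]
    exact (h u' hu').imp (fun e => by rw [e, map_zero]) fun e => by rw [e]
  have := all (a + b)
  rw [map_add, (all a).resolve_left ha, (all b).resolve_right hb, add_zero, left_eq_add] at this
  exact this.elim ha0 fun e => hb (by simp [e])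

variable {G : Type u} [Group G]

theorem comm_mul_left (u v w : G) : ⁅u * v, w⁆ = ⁅u, ⁅v, w⁆⁆ * ⁅v, w⁆ * ⁅u, w⁆ := by
  simp only [commutatorElement_def]; group

theorem comm_sq_left (u v : G) : ⁅u ^ 2, v⁆ = ⁅u, ⁅u, v⁆⁆ * ⁅u, v⁆ ^ 2 := by
  rw [pow_two, comm_mul_left, pow_two, mul_assoc]

theorem mul_sq (u v : G) : (u * v) ^ 2 = u ^ 2 * ⁅u⁻¹, v⁆ * v ^ 2 := by
  simp only [commutatorElement_def, pow_two]; group

theorem inv_eq_of_sq {z : G} (h : z ^ 2 = 1) : z⁻¹ = z := by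
  rw [inv_eq_iff_mul_eq_one, ← pow_two, h]

variable [Finite G] {Y : Set (MulAut G)} {x : MulAut G} {n d : ℕ} {A C : Subgroup G}

theorem Inv.exists_eq (hC : Inv Y C) {y : MulAut G} (hy : y ∈ Y) {u : G} (hu : u ∈ C) :
    ∃ v ∈ C, y v = u := by
  obtain ⟨v, hv⟩ := Finite.surjective_of_injective (f := fun v : C => (⟨y v, hC y hy v v.2⟩ : C))
    (fun v w e => Subtype.ext (y.injective (congrArg Subtype.val e))) ⟨u, hu⟩
  exact ⟨v, v.2, congrArg Subtype.val hv⟩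

omit [Finite G] in
theorem AbInv.mul_pow₃ (hA : AbInv Y A) {a b c : G} (ha : a ∈ A) (hb : b ∈ A) (hc : c ∈ A)
    (k : ℕ) : (a * b * c) ^ k = a ^ k * b ^ k * c ^ k := by
  rw [(hA.comm _ (mul_mem ha hb) c hc).mul_pow, (hA.comm a ha b hb).mul_pow]

/-- If `A` has exponent at least eight then `[C, A] ≤ A⁴`. -/
theorem Hyp.comm_mem_sq_sq (h : Hyp Y x n d) (hA : AbInv Y A) [hn : A.Normal] (hC : Inv Y C)
    (hsq : ∀ u ∈ C, u ^ 2 ∈ A) (h4 : sq (sq A) ≠ ⊥) {u : G} (hu : u ∈ C) {a : G} (ha : a ∈ A) :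
    ⁅u, a⁆ ∈ sq (sq A) := by
  obtain ⟨e, t1, t2, t3⟩ := h.toTr.exists_top hA fun e => h4 (le_bot_iff.1
    (e ▸ (sq_le _).trans (sq_le _)))
  obtain ⟨g, rfl⟩ : ∃ g, e = g + 2 := by
    refine Nat.exists_eq_add_of_le' (le_of_not_gt fun he => h4 ((eq_bot_iff_forall _).2 ?_))
    intro c hc
    obtain ⟨c, hc1, rfl⟩ := hA.sq.mem_sq.1 hc
    obtain ⟨c, hc2, rfl⟩ := hA.mem_sq.1 hc1
    interval_cases e
    · rw [show c ^ 2 = 1 by simpa using t1 c hc2, one_pow]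
    · simpa using t1 c hc2
  obtain ⟨V, _, _, _, om, -, hom, -, -⟩ := h.exists_om
  have mO := fun {g : G} => h.toTr.mem_Om (z := g)
  have om1 : om 1 = 0 := (hom.zero_iff 1 (one_mem _)).2 (one_mem _)
  have hp : Pres A (sq A) fun a => om (a ^ 2 ^ (g + 2)) :=
    ⟨fun a ha b hb => by
      rw [(hA.comm a ha b hb).mul_pow, hom.mul _ (mO.2 (t1 a ha)) _ (mO.2 (t1 b hb))],
    fun a ha => by rw [hom.zero_iff _ (mO.2 (t1 a ha)), mem_bot, t2 a ha],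
    fun l => by
      obtain ⟨z, hz, rfl⟩ := hom.surj l
      obtain ⟨a, ha, rfl⟩ := t3 z hz.2
      exact ⟨a, ha, rfl⟩⟩
  have half : ∀ u : G, ∀ a ∈ A, ∃ c ∈ A, ⁅u, a⁆ = c ^ 2 ∧
      ⁅u, a⁆ ^ 2 ^ (g + 1) = c ^ 2 ^ (g + 2) := fun u a ha => by
    obtain ⟨c, hc, e⟩ := hA.mem_sq.1 (h.toTr.comm_mem_sq' hA ha u)
    exact ⟨c, hc, e, by rw [e, ← pow_mul, ← pow_succ']⟩
  have inO : ∀ u : G, ∀ a ∈ A, ⁅u, a⁆ ^ 2 ^ (g + 1) ∈ Om G := fun u a ha => by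
    obtain ⟨c, hc, -, e⟩ := half u a ha
    exact e ▸ mO.2 (t1 c hc)
  have inA : ∀ u : G, ∀ a ∈ A, ⁅u, a⁆ ∈ A := fun u a ha => sq_le A (h.toTr.comm_mem_sq' hA ha u)
  have kill : ∀ u : G, ∀ a ∈ sq A, ⁅u, a⁆ ^ 2 ^ (g + 1) = 1 := fun u a ha1 => by
    obtain ⟨a, ha, rfl⟩ := hA.mem_sq.1 ha1
    rw [hA.comm_pow u ha, ← pow_mul, mul_comm, pow_mul, (inO u a ha).2]
  choose η hη using fun u : G => hp.lift (fun a => om (⁅u, a⁆ ^ 2 ^ (g + 1)))
    (fun a ha b hb => by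
      rw [hA.comm_mul u ha hb, (hA.comm _ (inA u a ha) _ (inA u b hb)).mul_pow,
        hom.mul _ (inO u a ha) _ (inO u b hb)])
    fun a _ ha => by rw [kill u a ha, om1]
  have add : ∀ u v, η (u * v) = η u + η v := fun u v => hp.ext fun a ha => by
    rw [LinearMap.add_apply, hη _ a ha, hη _ a ha, hη _ a ha, comm_mul_left,
      hA.mul_pow₃ (inA _ _ (inA v a ha)) (inA v a ha) (inA u a ha),
      kill u _ (h.toTr.comm_mem_sq' hA ha v), one_mul, hom.mul _ (inO v a ha) _ (inO u a ha),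
      add_comm]
  have idem : ∀ u ∈ C, ∀ v, η u (η u v) = η u v := fun u hu v => by
    obtain ⟨a, ha, rfl⟩ := hp.surj v
    obtain ⟨c, hc, e1, e2⟩ := half u a ha
    have e3 := comm_sq_left u a
    rw [commutatorElement_eq_one_iff_commute.2 (hA.comm _ (hsq u hu) a ha), e1, hA.comm_pow u hc,
      eq_comm, mul_eq_one_iff_eq_inv] at e3
    rw [hη u a ha, e2, hη u c hc, pow_succ' 2 g, pow_mul, e3, inv_pow, ← pow_mul, ← pow_mul,
      show 2 * (2 * 2 ^ g) = 2 ^ (g + 2) by ring, inv_eq_of_sq (t1 c hc)]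
  have scal : ∀ u ∈ C, (∀ v, η u v = 0) ∨ ∀ v, η u v = v := fun u hu => by
    refine idem_scalar (C : Set G) (fun u => (η u).toAddMonoidHom) idem (fun u hu u' hu' v => ?_)
      (fun v w hv hw => ?_) hu
    · have := idem _ (mul_mem hu hu') v
      simp only [add, LinearMap.add_apply, map_add, idem u hu, idem u' hu'] at this
      change η u (η u' v) = η u' (η u v)
      linear_combination (norm := abel1) this - add_self' (η u' (η u v))
    · obtain ⟨z, hz, rfl⟩ := hom.surj v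
      obtain ⟨w, hw', rfl⟩ := hom.surj w
      obtain ⟨y, hy, rfl⟩ := h.trans z w (by rintro rfl; exact hv om1) hz.2
        (by rintro rfl; exact hw om1) hw'.2
      obtain ⟨φ, hφ⟩ := hom.lift (fun z => om (y z))
        (fun a ha b hb => by rw [map_mul, hom.mul _ (map_mem_Om y ha) _ (map_mem_Om y hb)])
        fun a _ ha => by rw [mem_bot.1 ha, map_one, om1]
      refine ⟨φ.toAddMonoidHom, hφ z hz, fun u hu => ?_⟩
      obtain ⟨u, hu', rfl⟩ := hC.exists_eq hy hu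
      obtain ⟨a, ha, rfl⟩ := t3 z hz.2
      refine ⟨u, hu', ?_⟩
      change η (y u) (φ _) = φ (η u _)
      rw [hφ _ hz, hη u a ha, hφ _ (inO u a ha), map_pow, hη _ _ (hA.inv y hy a ha), map_pow,
        map_commutatorElement]
  have hfp : ∀ g, x g = g → g = 1 := fun g hg =>
    h.fpf (j := 1) (by have := h.num.one_lt; exact Nat.not_dvd_of_pos_of_lt one_pos this) g
      (by simpa using hg)
  obtain ⟨w, hw, rfl⟩ := exists_of_fpf hfp (hC x h.mem) hu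
  have z1 : ∀ w, η w = 0 ↔ ∀ a ∈ A, ⁅w, a⁆ ^ 2 ^ (g + 1) = 1 := fun w =>
    ⟨fun e a ha => mem_bot.1 ((hom.zero_iff _ (inO w a ha)).1 (by rw [← hη w a ha, e]; rfl)),
      fun e => hp.ext fun a ha => by rw [hη w a ha, e a ha, om1]; rfl⟩
  have z2 : η (x w) = 0 ↔ η w = 0 := by
    rw [z1, z1]
    refine ⟨fun e a ha => x.injective ?_, fun e a ha => ?_⟩
    · rw [map_pow, map_commutatorElement, e _ (hA.inv x h.mem a ha), map_one]
    · obtain ⟨a, ha', rfl⟩ := hA.inv.exists_eq h.mem ha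
      rw [← map_commutatorElement, ← map_pow, e a ha', map_one]
  have z3 : η (x w) = η w := by
    by_cases e : η w = 0
    · rw [e, z2.2 e]
    · ext v
      rw [(scal w hw).resolve_left fun e' => e (LinearMap.ext e'),
        (scal _ (hC x h.mem w hw)).resolve_left fun e' => e (z2.1 (LinearMap.ext e'))]
  have z4 : η (w⁻¹ * x w) = 0 := by
    rw [add, z3, ← add, inv_mul_cancel, z1]
    simp
  obtain ⟨c, hc, e1, e2⟩ := half (w⁻¹ * x w) a ha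
  rw [e1]
  exact sq_mem_sq ((t2 c hc).1 (e2 ▸ (z1 _).1 z4 a ha))

/-- If `A` has exponent four then `[C, C] ≤ Ω`. -/
theorem Hyp.comm_sq_eq_one (h : Hyp Y x n d) (hA : AbInv Y A) [hn : A.Normal] (hC : Inv Y C)
    (hsq : ∀ u ∈ C, u ^ 2 ∈ A) (hcm : ∀ u ∈ C, ∀ v ∈ C, ⁅u, v⁆ ∈ A) (h2 : sq A ≠ ⊥)
    (h4 : ∀ a ∈ sq A, a ^ 2 = 1) : ∀ u ∈ C, ∀ v ∈ C, ⁅u, v⁆ ^ 2 = 1 := by
  obtain ⟨V, _, _, _, om, y, hom, hV, hy⟩ := h.exists_om
  obtain ⟨L, _, _, _, p, hp⟩ := exists_pres C A hsq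
  obtain ⟨z, hz⟩ := hp.exists_act x (hC x h.mem) (hA.inv x h.mem)
  have hz1 : ∀ u ∈ C, z (p u) = p (x u) := fun u hu => by simpa using hz 1 u hu
  have mO := fun {g : G} => h.toTr.mem_Om (z := g)
  have om1 : om 1 = 0 := (hom.zero_iff 1 (one_mem _)).2 (one_mem _)
  have s1 : ∀ {a}, a ∈ A → a ^ 2 ∈ Om G := fun ha => mO.2 (h4 _ (sq_mem_sq ha))
  have s2 : ∀ (u : G) {a}, a ∈ A → ⁅u, a⁆ ∈ Om G := fun u _ ha =>
    mO.2 (h4 _ (h.toTr.comm_mem_sq' hA ha u))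
  have s3 : ∀ (u : G) {a}, a ∈ A → ⁅u, a⁆ ∈ A := fun u _ ha =>
    sq_le A (h.toTr.comm_mem_sq' hA ha u)
  have hp' : Pres A (Om G) fun a => om (a ^ 2) :=
    ⟨fun a ha b hb => by rw [(hA.comm a ha b hb).mul_pow, hom.mul _ (s1 ha) _ (s1 hb)],
    fun a ha => by rw [hom.zero_iff _ (s1 ha), mem_bot, mO],
    fun l => by
      obtain ⟨z, hz, rfl⟩ := hom.surj l
      obtain ⟨a, ha, rfl⟩ := hA.mem_sq.1 (h.toTr.om_le hA.sq.inv h2 hz.2)
      exact ⟨a, ha, rfl⟩⟩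
  have b1 : ∀ u ∈ C, ∀ v ∈ C, ∀ w ∈ C,
      om (⁅u * v, w⁆ ^ 2) = om (⁅u, w⁆ ^ 2) + om (⁅v, w⁆ ^ 2) := fun u hu v hv w hw => by
    rw [comm_mul_left, hA.mul_pow₃ (s3 u (hcm v hv w hw)) (hcm v hv w hw) (hcm u hu w hw),
      (s2 u (hcm v hv w hw)).2, one_mul, hom.mul _ (s1 (hcm v hv w hw)) _ (s1 (hcm u hu w hw)),
      add_comm]
  have b2 : ∀ u ∈ C, ∀ v ∈ C, ⁅u, v⁆ ^ 2 = ⁅v, u⁆ ^ 2 := fun u hu v hv => by
    rw [← commutatorElement_inv v u, inv_pow, inv_eq_of_sq (s1 (hcm v hv u hu)).2]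
  obtain ⟨β, hβ⟩ := hp.lift₂ hp (fun u v => om (⁅u, v⁆ ^ 2)) b1
    (fun u hu v hv w hw => by
      rw [b2 u hu _ (mul_mem hv hw), b1 v hv w hw u hu, b2 v hv u hu, b2 w hw u hu])
    (fun a ha ha' w hw => by rw [b2 a ha w hw, (s2 w ha').2, om1])
    fun u hu a _ ha => by rw [(s2 u ha).2, om1]
  obtain ⟨η, hη⟩ := hp.lift₂ hp' (fun u a => om ⁅u, a⁆)
    (fun u _ v _ a ha => by
      rw [comm_mul_left, commutatorElement_eq_one_iff_mul_comm.2 (mem_center_iff.1 (s2 v ha).1 u),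
        one_mul, hom.mul _ (s2 v ha) _ (s2 u ha), add_comm])
    (fun u _ a ha b hb => by rw [hA.comm_mul u ha hb, hom.mul _ (s2 u ha) _ (s2 u hb)])
    (fun a _ ha b hb => by rw [commutatorElement_eq_one_iff_commute.2 (hA.comm a ha b hb), om1])
    fun u _ a _ ha => by
      rw [commutatorElement_eq_one_iff_mul_comm.2 (mem_center_iff.1 ha.1 u), om1]
  obtain ⟨σ, hσ⟩ := hp.exists_fun (fun u => om ((u ^ 2) ^ 2)) fun u hu a _ ha => by
    rw [mul_sq, hA.mul_pow₃ (hsq u hu) (s3 _ ha) (pow_mem ha 2), (s2 _ ha).2, (s1 ha).2, mul_one,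
      mul_one]
  have := quad_eq_zero hV h.odd (pow_orderOf_act hp hz)
    (h.inj hp (hC x h.mem) (hA.inv x h.mem) hz) β η σ (fun l l' => by
      obtain ⟨u, hu, rfl⟩ := hp.surj l
      obtain ⟨v, hv, rfl⟩ := hp.surj l'
      have hc := hcm _ (inv_mem hu) v hv
      have e : p u⁻¹ = p u := (hp.eq_iff (inv_mem hu) hu).2 (by rw [inv_inv, ← pow_two]; exact hsq u hu)
      rw [← hp.mul u hu v hv, hσ _ (mul_mem hu hv), hσ u hu, hσ v hv, ← e, hβ _ (inv_mem hu) v hv,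
        mul_sq, hA.mul_pow₃ (hsq u hu) hc (hsq v hv),
        hom.mul _ (mul_mem (s1 (hsq u hu)) (s1 hc)) _ (s1 (hsq v hv)),
        hom.mul _ (s1 (hsq u hu)) _ (s1 hc), add_right_comm])
    (fun l => by
      obtain ⟨u, hu, rfl⟩ := hp.surj l
      rw [hβ u hu u hu, commutatorElement_self, one_pow, om1])
    (fun l l' => by
      obtain ⟨u, hu, rfl⟩ := hp.surj l
      obtain ⟨v, hv, rfl⟩ := hp.surj l'
      rw [hz1 u hu, hz1 v hv, hβ u hu v hv, hβ _ (hC x h.mem u hu) _ (hC x h.mem v hv),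
        hy _ (s1 (hcm u hu v hv)), map_pow, map_commutatorElement])
    (fun l => by
      obtain ⟨u, hu, rfl⟩ := hp.surj l
      rw [hz1 u hu, hσ u hu, hσ _ (hC x h.mem u hu), hy _ (s1 (hsq u hu)), map_pow, map_pow])
    fun l l' => by
      obtain ⟨u, hu, rfl⟩ := hp.surj l
      obtain ⟨v, hv, rfl⟩ := hp.surj l'
      have hc := hcm u hu v hv
      rw [hσ u hu, hβ u hu v hv, hη v hv _ (hsq u hu), hη u hu _ hc,
        ← inv_eq_of_sq (s2 v (hsq u hu)).2, commutatorElement_inv, comm_sq_left,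
        hom.mul _ (s2 u hc) _ (s1 hc), add_right_comm, add_self', zero_add]
  intro u hu v hv
  have e := hβ u hu v hv
  rw [this] at e
  exact mem_bot.1 ((hom.zero_iff _ (s1 (hcm u hu v hv))).1 e.symm)

/-- If `[C, A] ≤ A⁴` and `[C, C] ≤ A²` then `C` is abelian. -/
theorem Hyp.commute_of_comm (h : Hyp Y x n d) (hA : AbInv Y A) [hn : A.Normal] (h0 : A ≠ ⊥)
    (hC : Inv Y C) [C.Normal] (hAC : A ≤ C) (hsq : ∀ u ∈ C, u ^ 2 ∈ A)
    (hca : ∀ u ∈ C, ∀ a ∈ A, ⁅u, a⁆ ∈ sq (sq A)) (hcm : ∀ u ∈ C, ∀ v ∈ C, ⁅u, v⁆ ∈ sq A) :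
    ∀ u ∈ C, ∀ v ∈ C, Commute u v := by
  by_cases hle : C ≤ A
  · exact fun u hu v hv => hA.comm u (hle hu) v (hle hv)
  obtain ⟨u₀, hu₀, hu₀'⟩ := SetLike.not_le_iff_exists.1 hle
  have hDA : ⁅C, C⁆ ≤ A := commutator_le.2 fun u hu v hv => sq_le A (hcm u hu v hv)
  have hD : AbInv Y ⁅C, C⁆ := hA.of_le (hC.commutator hC) hDA
  have mD : ∀ {u v}, u ∈ C → v ∈ C → ⁅u, v⁆ ∈ ⁅C, C⁆ := commutator_mem_commutator
  by_cases hD0 : ⁅C, C⁆ = ⊥
  · exact fun u hu v hv => commutatorElement_eq_one_iff_commute.1 (mem_bot.1 (hD0 ▸ mD hu hv))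
  obtain ⟨e, t1, t2, -⟩ := h.toTr.exists_top hA h0
  obtain ⟨f, r1, r2, -⟩ := h.toTr.exists_top hD hD0
  have an : ∀ u ∈ C, u ^ 2 ∈ sq A ↔ u ∈ A := fun u hu =>
    ⟨fun e => h.toTr.mem_of_sq hA h0 e (hca u hu), sq_mem_sq⟩
  let W : Subgroup G :=
    { carrier := {a | a ∈ A ∧ ∀ c ∈ C, ⁅c, a⁆ ∈ sq ⁅C, C⁆}
      mul_mem' := fun {a b} ha hb => ⟨mul_mem ha.1 hb.1, fun c hc => by
        rw [hA.comm_mul c ha.1 hb.1]; exact mul_mem (ha.2 c hc) (hb.2 c hc)⟩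
      one_mem' := ⟨one_mem _, fun c _ => by simp⟩
      inv_mem' := fun {a} ha => ⟨inv_mem ha.1, fun c hc => by
        have := hA.comm_mul c ha.1 (inv_mem ha.1)
        rw [mul_inv_cancel, commutatorElement_one_right, eq_comm, mul_eq_one_iff_inv_eq] at this
        exact this ▸ inv_mem (ha.2 c hc)⟩ }
  have hW : W = A := h.toTr.eq_of_not_mem_sq hA (fun y hy a ha => ⟨hA.inv y hy a ha.1, fun c hc => by
      obtain ⟨c, hc', rfl⟩ := hC.exists_eq hy hc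
      rw [← map_commutatorElement]
      exact hD.sq.inv y hy _ (ha.2 c hc')⟩) (fun a ha => ha.1) (b := u₀ ^ 2)
    ⟨hsq _ hu₀, fun c hc => by
      rw [← commutatorElement_inv, comm_sq_left]
      exact inv_mem (mul_mem (h.toTr.comm_mem_sq' hD (mD hu₀ hc) _) (sq_mem_sq (mD hu₀ hc)))⟩
    fun e => hu₀' ((an _ hu₀).1 e)
  have b2 : ∀ u ∈ C, ∀ v ∈ C, ⁅u, v⁆ ^ 2 ^ f = ⁅v, u⁆ ^ 2 ^ f := fun u hu v hv => by
    rw [← commutatorElement_inv v u, inv_pow, inv_eq_of_sq (r1 _ (mD hv hu))]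
  have := h.alt hC hA.inv hsq (fun u => (u ^ 2) ^ 2 ^ e) (fun u hu => t1 _ (hsq u hu))
    (fun u hu v hv => by
      have hc := hcm _ (inv_mem hu) v hv
      rw [mul_sq, hA.mul_pow₃ (hsq u hu) (sq_le A hc) (hsq v hv), (t2 _ (sq_le A hc)).2 hc, mul_one])
    (fun u hu => by rw [t2 _ (hsq u hu), an u hu]) (fun u _ => by rw [map_pow, map_pow])
    (fun u v => ⁅u, v⁆ ^ 2 ^ f) (fun u hu v hv => r1 _ (mD hu hv))
    (fun u hu v hv w hw => by
      have hc := h.toTr.comm_mem_sq' hD (mD hv hw) u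
      rw [comm_mul_left, hD.mul_pow₃ (sq_le _ hc) (mD hv hw) (mD hu hw), (r2 _ (sq_le _ hc)).2 hc,
        one_mul]
      exact (hD.comm _ (mD hv hw) _ (mD hu hw)).pow_pow _ _) b2
    (fun a ha v hv => by
      rw [b2 a (hAC ha) v hv, r2 _ (mD hv (hAC ha))]
      exact (show a ∈ W from hW ▸ ha).2 v hv)
    (fun u _ => by simp) fun u _ v _ => by rw [map_pow, map_commutatorElement]
  exact absurd (commutator_le.2 fun u hu v hv => (r2 _ (mD hu hv)).1 (this u hu v hv))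
    (h.toTr.sq_lt hD hD0).not_ge

end Cfsg.Agent.Suz2
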